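import Mathlib
import Cfsg.Agent.Lib.BG.AmbConj
import Cfsg.Agent.Lib.Core.Frattini

/-!
Sims chains: a sequence `x i = gⁱ x g⁻ⁱ` such that any `l ≤ t` consecutive members generate a group
of order `p ^ l` (Sims 1967, Glauberman 1969).
-/

set_option autoImplicit false

namespace CfsgLib.Sims

open Cfsg CfsgLib.BG

variable {G : Type*} [Group G]

/-- the subgroup generated by `x a, …, x b` -/
def seg (x : ℤ → G) (a b : ℤ) : Subgroup G := Subgroup.closure {y | ∃ j, a ≤ j ∧ j ≤ b ∧ x j = y}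

section seg
variable {x : ℤ → G} {a b a' b' : ℤ}

theorem mem_seg {j : ℤ} (h1 : a ≤ j) (h2 : j ≤ b) : x j ∈ seg x a b :=
  Subgroup.subset_closure ⟨j, h1, h2, rfl⟩

theorem seg_le {K : Subgroup G} : seg x a b ≤ K ↔ ∀ j, a ≤ j → j ≤ b → x j ∈ K :=
  ⟨fun h _ h1 h2 => h (mem_seg h1 h2), fun h => (Subgroup.closure_le _).2 (by
    rintro _ ⟨j, h1, h2, rfl⟩
    exact h j h1 h2)⟩

theorem seg_mono (h1 : a' ≤ a) (h2 : b ≤ b') : seg x a b ≤ seg x a' b' :=
  seg_le.2 fun _ h3 h4 => mem_seg (h1.trans h3) (h4.trans h2)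

theorem seg_empty (h : b < a) : seg x a b = ⊥ :=
  eq_bot_iff.2 (seg_le.2 fun _ h1 h2 => absurd (h1.trans h2) (not_le.2 h))

theorem seg_self (x : ℤ → G) (a : ℤ) : seg x a a = Subgroup.zpowers (x a) :=
  le_antisymm (seg_le.2 fun _ h1 h2 => le_antisymm h1 h2 ▸ Subgroup.mem_zpowers _)
    (Subgroup.zpowers_le.2 (mem_seg le_rfl le_rfl))

theorem seg_rev (x : ℤ → G) (c a b : ℤ) : seg (fun i => x (c - i)) a b = seg x (c - b) (c - a) :=
  le_antisymm (seg_le.2 fun _ h1 h2 => mem_seg (by omega) (by omega))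
    (seg_le.2 fun j h1 h2 => by
      have := mem_seg (x := fun i => x (c - i)) (j := c - j) (a := a) (b := b) (by omega) (by omega)
      simpa using this)

theorem commute_seg {z : G} (h : ∀ j, a ≤ j → j ≤ b → Commute z (x j)) {w : G}
    (hw : w ∈ seg x a b) : Commute z w :=
  (mem_cent1.1 (seg_le.2 (fun j h1 h2 => mem_cent1.2 (h j h1 h2).symm.eq) hw) : w * z = z * w).symm

end seg

theorem relIndex_of_card [Finite G] {H K : Subgroup G} {p l : ℕ} (hp : p.Prime) (hle : H ≤ K)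
    (hK : Nat.card K = p ^ (l + 1)) (hH : Nat.card H = p ^ l) : H.relIndex K = p := by
  have h := (H.subgroupOf K).card_mul_index
  rw [Nat.card_congr (Subgroup.subgroupOfEquivOfLe hle).toEquiv, hK, hH, pow_succ] at h
  exact Nat.eq_of_mul_eq_mul_left (pow_pos hp.pos l) h

theorem comm_mem_of_relIndex [Finite G] {H K : Subgroup G} {p : ℕ} (hp : p.Prime) (hK : IsPGroup p K)
    (h : H.relIndex K = p) {u v : G} (hu : u ∈ K) (hv : v ∈ K) : u * v * u⁻¹ * v⁻¹ ∈ H := by
  have : Fact p.Prime := ⟨hp⟩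
  obtain ⟨l, hl⟩ := hK.exists_card_eq
  have h1 : l ≠ 0 := by
    rintro rfl
    have := (H.subgroupOf K).index_dvd_card
    rw [hl, pow_zero, Nat.dvd_one] at this
    exact hp.one_lt.ne' (h.symm.trans this)
  have : (H.subgroupOf K).Normal :=
    Subgroup.normal_of_index_eq_minFac_card (by rw [hl, hp.pow_minFac h1]; exact h)
  have h2 := Core.commutator_le_of_index_prime (M := H.subgroupOf K) (by
    rw [show (H.subgroupOf K).index = p from h]; exact hp)
  exact h2 (Subgroup.commutator_mem_commutator (Subgroup.mem_top (⟨u, hu⟩ : K)) (Subgroup.mem_top ⟨v, hv⟩))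

theorem le_norm_of_relIndex [Finite G] {H K : Subgroup G} {p : ℕ} (hp : p.Prime) (hK : IsPGroup p K)
    (hle : H ≤ K) (h : H.relIndex K = p) : K ≤ 𝒩(H) := fun g hg =>
  mem_norm_of_cj_le (cj_le_iff.2 fun y hy => by
    simpa using mul_mem (comm_mem_of_relIndex hp hK h hg (hle hy)) hy)

/-- a Sims chain -/
structure Chain (p t : ℕ) (x : ℤ → G) (g : G) : Prop where
  prime : p.Prime
  shift : ∀ i, x (i + 1) = g * x i * g⁻¹
  card : ∀ (a b : ℤ) (l : ℕ), l ≤ t → b + 1 = a + l → Nat.card (seg x a b) = p ^ l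

theorem shift_zpow {x : ℤ → G} {g : G} (h : ∀ i, x (i + 1) = g * x i * g⁻¹) (i c : ℤ) :
    x (i + c) = g ^ c * x i * (g ^ c)⁻¹ := by
  induction c using Int.induction_on with
  | zero => simp
  | succ c ih => rw [← add_assoc, h, ih]; group
  | pred c ih =>
    have := h (i + (-c - 1))
    rw [show i + (-(c : ℤ) - 1) + 1 = i + -c by ring, ih] at this
    calc x (i + (-c - 1)) = g⁻¹ * (g * x (i + (-c - 1)) * g⁻¹) * g := by group
      _ = _ := by rw [← this]; group

theorem cj_seg {x : ℤ → G} {g : G} (h : ∀ i, x (i + 1) = g * x i * g⁻¹) (c a b : ℤ) :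
    cj (g ^ c) (seg x a b) = seg x (a + c) (b + c) := by
  refine le_antisymm (cj_le_iff_le_cj_inv.2 (seg_le.2 fun j h1 h2 => mem_cj_inv.2 ?_))
    (seg_le.2 fun j h1 h2 => ?_)
  · rw [← shift_zpow h]; exact mem_seg (by omega) (by omega)
  · rw [show j = j - c + c by ring, shift_zpow h]
    exact conj_mem_cj.2 (mem_seg (by omega) (by omega))

namespace Chain

variable [Finite G] {p t : ℕ} {x : ℤ → G} {g : G} (h : Chain p t x g)
include h

omit [Finite G] in
theorem rev (c : ℤ) : Chain p t (fun i => x (c - i)) g⁻¹ where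
  prime := h.prime
  shift i := by
    have := h.shift (c - (i + 1))
    rw [show c - (i + 1) + 1 = c - i by ring] at this
    simp only [this]
    group
  card a b l h1 h2 := by rw [seg_rev]; exact h.card _ _ l h1 (by omega)

omit [Finite G] in
theorem commute_shift {i j : ℤ} (hc : Commute (x i) (x j)) (c : ℤ) : Commute (x (i + c)) (x (j + c)) := by
  rw [shift_zpow h.shift, shift_zpow h.shift]
  exact hc.conj _

omit [Finite G] in
theorem orderOf_eq (ht : 1 ≤ t) (i : ℤ) : orderOf (x i) = p := by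
  rw [← Nat.card_zpowers, ← seg_self, h.card i i 1 ht (by simp), pow_one]

omit [Finite G] in
theorem pgroup {a b : ℤ} (hl : b + 1 ≤ a + t) : IsPGroup p (seg x a b) := by
  by_cases hab : b < a
  · rw [seg_empty hab]; exact IsPGroup.of_bot
  · exact IsPGroup.of_card (h.card a b (b + 1 - a).toNat (by omega) (by omega))

theorem relIndex_left {a b : ℤ} (hab : a ≤ b) (hl : b + 1 ≤ a + t) :
    (seg x (a + 1) b).relIndex (seg x a b) = p :=
  relIndex_of_card (l := (b - a).toNat) h.prime (seg_mono (by omega) le_rfl)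
    (h.card _ _ _ (by omega) (by push_cast; omega)) (h.card _ _ _ (by omega) (by omega))

theorem relIndex_right {a b : ℤ} (hab : a ≤ b) (hl : b + 1 ≤ a + t) :
    (seg x a (b - 1)).relIndex (seg x a b) = p :=
  relIndex_of_card (l := (b - a).toNat) h.prime (seg_mono le_rfl (by omega))
    (h.card _ _ _ (by omega) (by push_cast; omega)) (h.card _ _ _ (by omega) (by omega))

theorem norm_left {a b : ℤ} (hab : a ≤ b) (hl : b + 1 ≤ a + t) : seg x a b ≤ 𝒩(seg x (a + 1) b) :=
  le_norm_of_relIndex h.prime (h.pgroup hl) (seg_mono (by omega) le_rfl) (h.relIndex_left hab hl)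

theorem norm_right {a b : ℤ} (hab : a ≤ b) (hl : b + 1 ≤ a + t) : seg x a b ≤ 𝒩(seg x a (b - 1)) :=
  le_norm_of_relIndex h.prime (h.pgroup hl) (seg_mono le_rfl (by omega)) (h.relIndex_right hab hl)

theorem not_mem_left {a b : ℤ} (hab : a ≤ b) (hl : b + 1 ≤ a + t) : x a ∉ seg x (a + 1) b := fun e => by
  have h1 := h.relIndex_left hab hl
  rw [Subgroup.relIndex_eq_one.2 (seg_le.2 fun j h1 h2 => by
    rcases h1.eq_or_lt with rfl | h1
    exacts [e, mem_seg (by omega) h2])] at h1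
  exact h.prime.one_lt.ne h1

theorem not_mem_right {a b : ℤ} (hab : a ≤ b) (hl : b + 1 ≤ a + t) : x b ∉ seg x a (b - 1) := fun e => by
  have h1 := h.relIndex_right hab hl
  rw [Subgroup.relIndex_eq_one.2 (seg_le.2 fun j h1 h2 => by
    rcases h2.eq_or_lt with rfl | h2
    exacts [e, mem_seg h1 (by omega)])] at h1
  exact h.prime.one_lt.ne h1

theorem decomp_left {a b : ℤ} (hab : a ≤ b) (hl : b + 1 ≤ a + t) {w : G} (hw : w ∈ seg x a b) :
    ∃ e : ℤ, ∃ w' ∈ seg x (a + 1) b, w = x a ^ e * w' := by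
  have h1 : seg x a b ≤ Subgroup.zpowers (x a) ⊔ seg x (a + 1) b := seg_le.2 fun j h1 h2 => by
    rcases h1.eq_or_lt with rfl | h1
    exacts [Subgroup.mem_sup_left (Subgroup.mem_zpowers _), Subgroup.mem_sup_right (mem_seg (by omega) h2)]
  obtain ⟨_, ⟨e, rfl⟩, w', hw', rfl⟩ :=
    (mem_sup_norm_r (Subgroup.zpowers_le.2 (h.norm_left hab hl (mem_seg le_rfl hab)))).1 (h1 hw)
  exact ⟨e, w', hw', rfl⟩

theorem decomp_right {a b : ℤ} (hab : a ≤ b) (hl : b + 1 ≤ a + t) {w : G} (hw : w ∈ seg x a b) :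
    ∃ e : ℤ, ∃ w' ∈ seg x a (b - 1), w = x b ^ e * w' := by
  have := (h.rev 0).decomp_left (a := -b) (b := -a) (by omega) (by omega) (w := w) (by
    rw [seg_rev]; simpa using hw)
  rw [seg_rev] at this
  simpa [show -(-b + 1) = b - 1 by ring] using this

omit [Finite G] in
/-- a power of `x i` is trivial or generates `x i` -/
theorem zpow_eq_one_or (ht : 1 ≤ t) (i e : ℤ) : x i ^ e = 1 ∨ x i ∈ Subgroup.zpowers (x i ^ e) := by
  have : Fact p.Prime := ⟨h.prime⟩
  by_cases h1 : x i ^ e = 1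
  · exact Or.inl h1
  · exact Or.inr (mem_zpowers_zpow_iff.2 (by
      rw [h.orderOf_eq ht, Int.gcd_comm, Int.gcd_eq_natAbs, Int.natAbs_natCast]
      refine (Nat.Prime.coprime_iff_not_dvd h.prime).2 fun hd => h1 ?_
      rw [← orderOf_dvd_iff_zpow_eq_one, h.orderOf_eq ht]
      exact Int.natCast_dvd.2 hd))

theorem inter_one {a b : ℤ} (hl : b + 2 ≤ a + t) {w : G} (h1 : w ∈ seg x a b)
    (h2 : w ∈ seg x (a + 1) (b + 1)) : w ∈ seg x (a + 1) b := by
  by_cases hab : b < a
  · rw [seg_empty hab, Subgroup.mem_bot] at h1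
    rw [h1]; exact one_mem _
  obtain ⟨e, w', hw', rfl⟩ := h.decomp_left (not_lt.1 hab) (by omega) h1
  rcases h.zpow_eq_one_or (by omega) a e with h3 | h3
  · rwa [h3, one_mul]
  · refine absurd (Subgroup.zpowers_le.2 ?_ h3) (h.not_mem_left (b := b + 1) (by omega) (by omega))
    simpa using mul_mem h2 (inv_mem (seg_mono le_rfl (by omega) hw'))

theorem inter_succ {a b : ℤ} (d : ℕ) (hl : b + d + 1 ≤ a + t) {w : G} (h1 : w ∈ seg x a b)
    (h2 : w ∈ seg x (a + 1) (b + d)) : w ∈ seg x (a + 1) b := by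
  induction d with
  | zero => simpa using h2
  | succ d ih =>
    push_cast at hl h2
    exact ih (by omega) (h.inter_one (by omega) (seg_mono le_rfl (by omega) h1) (by rwa [add_assoc]))

theorem inter {a b a' b' : ℤ} (ha : a ≤ a') (hb : b ≤ b') (hl : b' + 1 ≤ a + t) {w : G}
    (h1 : w ∈ seg x a b) (h2 : w ∈ seg x a' b') : w ∈ seg x a' b := by
  obtain ⟨c, rfl⟩ : ∃ c : ℕ, a' = a + c := ⟨(a' - a).toNat, by omega⟩
  obtain ⟨d, rfl⟩ : ∃ d : ℕ, b' = b + d := ⟨(b' - b).toNat, by omega⟩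
  induction c with
  | zero => simpa using h1
  | succ c ih =>
    push_cast at h2 ⊢
    rw [← add_assoc] at h2 ⊢
    exact h.inter_succ d (by omega) (ih (by omega) (seg_mono (by omega) le_rfl h2)) h2

theorem comm_mem {a b : ℤ} (hab : a ≤ b) (hl : b + 1 ≤ a + t) {u v : G} (hu : u ∈ seg x a b)
    (hv : v ∈ seg x a b) : u * v * u⁻¹ * v⁻¹ ∈ seg x (a + 1) (b - 1) :=
  h.inter (by omega) (by omega) hl
    (comm_mem_of_relIndex h.prime (h.pgroup hl) (h.relIndex_right hab hl) hu hv)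
    (comm_mem_of_relIndex h.prime (h.pgroup hl) (h.relIndex_left hab hl) hu hv)

/-- the commutator `[x 0, x k]` of the first non-commuting pair starts at `t - k` -/
theorem comm_mem_left {k : ℕ} (hk : k < t)
    (hc : ∀ i j : ℤ, i - j < k → j - i < k → Commute (x i) (x j)) (hn : ¬ Commute (x 0) (x k)) :
    x 0 * x k * (x 0)⁻¹ * (x k)⁻¹ ∈ seg x (t - k) (k - 1) := by
  have key : ∀ a : ℕ, a + 1 + k ≤ t → x 0 * x k * (x 0)⁻¹ * (x k)⁻¹ ∈ seg x (a + 1) (k - 1) := by
    intro a
    induction a with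
    | zero => exact fun _ => h.comm_mem (by omega) (by omega) (mem_seg le_rfl (by omega)) (mem_seg (by omega) le_rfl)
    | succ a ih =>
      intro ha
      have hw := ih (by omega)
      push_cast
      by_cases hak : (k : ℤ) - 1 < a + 1
      · rw [seg_empty hak, Subgroup.mem_bot] at hw
        rw [hw]; exact one_mem _
      obtain ⟨e, w', hw', e1⟩ := h.decomp_left (not_lt.1 hak) (by omega) hw
      rcases h.zpow_eq_one_or (by omega) (a + 1) e with h3 | h3
      · rwa [e1, h3, one_mul]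
      exfalso
      set y := x (a + 1 + k) with hy
      have hu := h.comm_mem (a := 0) (b := a + 1 + k) (by omega) (by omega)
        (mem_seg (j := a + 1 + k) (by omega) le_rfl) (mem_seg le_rfl (by omega))
      set u := y * x 0 * y⁻¹ * (x 0)⁻¹ with hu'
      have c1 : Commute (x k) u := commute_seg (fun j h1 h2 => hc _ _ (by omega) (by omega)) hu
      have c2 : Commute y (x k) := hc _ _ (by omega) (by omega)
      have c3 : Commute u (x 0 * x k * (x 0)⁻¹ * (x k)⁻¹) :=
        commute_seg (fun j h1 h2 => (commute_seg (fun i h3 h4 => hc _ _ (by omega) (by omega)) hu).symm) hw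
      have c4 : Commute y (x 0 * x k * (x 0)⁻¹ * (x k)⁻¹) := by
        have e2 : y * x 0 * y⁻¹ = u * x 0 := by rw [hu']; group
        have e3 : y * x k * y⁻¹ = x k := by rw [c2.eq, mul_inv_cancel_right]
        have e4 : y * (x 0 * x k * (x 0)⁻¹ * (x k)⁻¹) * y⁻¹ = x 0 * x k * (x 0)⁻¹ * (x k)⁻¹ := by
          calc y * (x 0 * x k * (x 0)⁻¹ * (x k)⁻¹) * y⁻¹
              = (y * x 0 * y⁻¹) * (y * x k * y⁻¹) * (y * x 0 * y⁻¹)⁻¹ * (y * x k * y⁻¹)⁻¹ := by group
            _ = u * (x 0 * x k * (x 0)⁻¹) * (x k * u)⁻¹ := by rw [e2, e3]; group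
            _ = u * (x 0 * x k * (x 0)⁻¹ * (x k)⁻¹) * u⁻¹ := by rw [c1.eq]; group
            _ = _ := by rw [c3.eq, mul_inv_cancel_right]
        exact mul_inv_eq_iff_eq_mul.1 e4
      have c5 : Commute y w' := commute_seg (fun j h1 h2 => hc _ _ (by omega) (by omega)) hw'
      have c6 : Commute y (x (a + 1) ^ e) := by
        rw [e1] at c4
        simpa using c4.mul_right c5.inv_right
      obtain ⟨m, hm⟩ := h3
      have c7 : Commute y (x (a + 1)) := by rw [← hm]; exact c6.zpow_right m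
      have := h.commute_shift c7.symm (-(a + 1))
      rw [show (a : ℤ) + 1 + -(a + 1) = 0 by ring, show (a : ℤ) + 1 + k + -(a + 1) = k by ring] at this
      exact hn this
  have := key (t - k - 1) (by omega)
  rwa [show ((t - k - 1 : ℕ) : ℤ) + 1 = t - k by omega] at this

theorem comm_mem_mid {k : ℕ} (hk : k < t)
    (hc : ∀ i j : ℤ, i - j < k → j - i < k → Commute (x i) (x j)) (hn : ¬ Commute (x 0) (x k)) :
    x 0 * x k * (x 0)⁻¹ * (x k)⁻¹ ∈ seg x (t - k) (2 * k - t) := by
  have h1 := h.comm_mem_left hk hc hn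
  have h2 := (h.rev k).comm_mem_left hk (fun i j h1 h2 => hc _ _ (by omega) (by omega))
    (by simpa using fun e : Commute (x k) (x 0) => hn e.symm)
  rw [seg_rev] at h2
  simp only [sub_zero, sub_self] at h2
  refine h.inter (a := k - (k - 1)) (by omega) (by omega) (by omega) ?_ h1
  have := inv_mem h2
  rwa [show (k : ℤ) - (t - k) = 2 * k - t by ring, show (x k * x 0 * (x k)⁻¹ * (x 0)⁻¹)⁻¹ =
    x 0 * x k * (x 0)⁻¹ * (x k)⁻¹ by group] at this

/-- Sims' inequalities -/
theorem bound (ht : 1 ≤ t) (n : ℕ)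
    (hz : ∀ z ∈ seg x 0 (t - 1), (∀ j : ℤ, -n ≤ j → j ≤ t - 1 → Commute z (x j)) → z = 1) :
    (t ≤ n ∧ ∀ i j : ℤ, i - j < t → j - i < t → Commute (x i) (x j)) ∨
    ∃ k : ℕ, k < t ∧ 2 * t ≤ 3 * k ∧ 2 * k ≤ t + n ∧
      (∀ i j : ℤ, i - j < k → j - i < k → Commute (x i) (x j)) ∧ ¬ Commute (x 0) (x k) := by
  classical
  have hne : ∀ i, x i ≠ 1 := fun i e => by
    have := h.orderOf_eq ht i
    rw [e, orderOf_one] at this
    exact h.prime.one_lt.ne this
  have hall : ∀ k : ℕ, (∀ m : ℕ, m < k → Commute (x 0) (x m)) →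
      ∀ i j : ℤ, i - j < k → j - i < k → Commute (x i) (x j) := fun k hm i j h1 h2 => by
    rcases le_total i j with h3 | h3
    · have := h.commute_shift (hm (j - i).toNat (by omega)) i
      rwa [zero_add, show ((j - i).toNat : ℤ) + i = j by omega] at this
    · have := h.commute_shift (hm (i - j).toNat (by omega)) j
      rw [zero_add, show ((i - j).toNat : ℤ) + j = i by omega] at this
      exact this.symm
  have hk : ∀ k : ℕ, k ≤ t → (∀ i j : ℤ, i - j < k → j - i < k → Commute (x i) (x j)) →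
      2 * k ≤ t + n := fun k h1 hc => by
    by_contra h2
    exact hne (k - n - 1) (hz _ (mem_seg (by omega) (by omega)) fun j h3 h4 => hc _ _ (by omega) (by omega))
  by_cases hex : ∃ k : ℕ, k < t ∧ ¬ Commute (x 0) (x k)
  · right
    have h1 := Nat.find_spec hex
    have hc := hall (Nat.find hex) fun m hm => by
      by_contra h2
      exact Nat.find_min hex hm ⟨hm.trans h1.1, h2⟩
    refine ⟨_, h1.1, ?_, hk _ h1.1.le hc, hc, h1.2⟩
    by_contra h2
    have h3 := h.comm_mem_mid h1.1 hc h1.2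
    rw [seg_empty (by omega), Subgroup.mem_bot, mul_inv_eq_one, mul_inv_eq_iff_eq_mul] at h3
    exact h1.2 h3
  · left
    have hc := hall t fun m hm => by
      by_contra h2
      exact hex ⟨m, hm, h2⟩
    have := hk t le_rfl hc
    exact ⟨by omega, hc⟩

end Chain

end CfsgLib.Sims
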