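import Mathlib
import Cfsg.Agent.Lib.Sims.Chain

/-! Existence of Sims chains. -/

set_option autoImplicit false

namespace CfsgLib.Sims

open Cfsg CfsgLib.BG
open scoped Pointwise

variable {G : Type*} [Group G]

theorem conj_smul_eq_cj (g : G) (H : Subgroup G) : MulAut.conj g • H = cj g H := rfl

/-- `P ∩ P^g ∩ … ∩ P^(gⁱ)` -/
def tower (P : Subgroup G) (g : G) : ℕ → Subgroup G
  | 0 => P
  | i + 1 => tower P g i ⊓ cj g⁻¹ (tower P g i)

theorem tower_le (P : Subgroup G) (g : G) (i : ℕ) : tower P g i ≤ P := by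
  induction i with
  | zero => exact le_rfl
  | succ i ih => exact inf_le_left.trans ih

variable [Finite G]

theorem tower_step {P : Subgroup G} {g : G} {p t : ℕ} (hp : p.Prime) (hP : Nat.card P = p ^ t)
    (hidx : (P ⊓ cj g⁻¹ P).relIndex P = p)
    (h1 : ∀ Q : Subgroup G, Q ≤ P → P ≤ 𝒩(Q) → g ∈ 𝒩(Q) → Q = ⊥) (i : ℕ) (hi : i < t) :
    Nat.card (tower P g i) = p ^ (t - i) ∧ (tower P g (i + 1)).relIndex (tower P g i) = p ∧
      (∀ M : Subgroup G, g ∈ M → tower P g i ≤ M → P ≤ M) ∧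
      (∀ j, i = j + 1 → tower P g j = tower P g i ⊔ cj g (tower P g i)) := by
  induction i with
  | zero => exact ⟨hP, hidx, fun _ _ h => h, fun j h => absurd h (by omega)⟩
  | succ i ih =>
    obtain ⟨h2, h3, h4, -⟩ := ih (by omega)
    have hle : tower P g (i + 1) ≤ tower P g i := inf_le_left
    have h5 : Nat.card (tower P g (i + 1)) = p ^ (t - (i + 1)) := by
      have h := ((tower P g (i + 1)).subgroupOf (tower P g i)).card_mul_index
      rw [Nat.card_congr (Subgroup.subgroupOfEquivOfLe hle).toEquiv, h2, show t - i = t - (i + 1) + 1 by omega,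
        pow_succ, show ((tower P g (i + 1)).subgroupOf (tower P g i)).index = p from h3] at h
      exact Nat.eq_of_mul_eq_mul_right hp.pos h
    have h6 : ¬ cj g (tower P g (i + 1)) ≤ tower P g (i + 1) := fun e => by
      have hg := mem_norm_of_cj_le e
      have := h1 _ (tower_le P g _) (h4 _ hg (le_norm_of_relIndex hp (IsPGroup.of_card h2) hle h3)) hg
      rw [this, Subgroup.card_bot] at h5
      exact (Nat.one_lt_pow (by omega) hp.one_lt).ne h5
    have h7 : tower P g i = tower P g (i + 1) ⊔ cj g (tower P g (i + 1)) :=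
      ((Core.eq_or_eq_of_relIndex_prime (H := tower P g (i + 1)) (K := tower P g i) (by rw [h3]; exact hp)
        le_sup_left (sup_le hle (cj_le_iff_le_cj_inv.2 inf_le_right))).resolve_left
          fun e => h6 (le_sup_right.trans e.le)).symm
    refine ⟨h5, ?_, fun M hg hM => h4 M hg (h7 ▸ sup_le hM (cj_le_of_mem hg hM)), fun j hj => by
      obtain rfl : i = j := by omega
      exact h7⟩
    change (tower P g (i + 1) ⊓ cj g⁻¹ (tower P g (i + 1))).relIndex _ = p
    rw [Subgroup.inf_relIndex_left]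
    have h8 : (cj g⁻¹ (tower P g (i + 1))).relIndex (tower P g (i + 1)) ≤ p := by
      have := Subgroup.relIndex_le_of_le_right (H := cj g⁻¹ (tower P g (i + 1)))
        (show tower P g (i + 1) ≤ cj g⁻¹ (tower P g i) from inf_le_right) (by
          rw [relIndex_cj, h3]; exact hp.ne_zero)
      rwa [relIndex_cj, h3] at this
    obtain ⟨j, -, h9⟩ := (Nat.dvd_prime_pow hp).1 (h5 ▸ Subgroup.relIndex_dvd_card
      (cj g⁻¹ (tower P g (i + 1))) (tower P g (i + 1)))
    rw [h9] at h8 ⊢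
    have h10 : j ≠ 0 := by
      rintro rfl
      exact h6 (cj_le_iff_le_cj_inv.2 (Subgroup.relIndex_eq_one.1 h9))
    have h11 : j ≤ 1 := (Nat.pow_le_pow_iff_right hp.one_lt).1 (by rwa [pow_one])
    rw [show j = 1 by omega, pow_one]

theorem exists_chain {P : Subgroup G} {g : G} {p : ℕ} (hp : p.Prime) (hP : IsPGroup p P)
    (hidx : (P ⊓ cj g⁻¹ P).relIndex P = p)
    (h1 : ∀ Q : Subgroup G, Q ≤ P → P ≤ 𝒩(Q) → g ∈ 𝒩(Q) → Q = ⊥) :
    ∃ (t : ℕ) (x : ℤ → G), 1 ≤ t ∧ Chain p t x g ∧ P = seg x 0 (t - 1) := by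
  have : Fact p.Prime := ⟨hp⟩
  obtain ⟨t, ht⟩ := hP.exists_card_eq
  have ht1 : 1 ≤ t := by
    by_contra h
    have := Subgroup.relIndex_dvd_card (P ⊓ cj g⁻¹ P) P
    rw [hidx, ht, show t = 0 by omega, pow_zero, Nat.dvd_one] at this
    exact hp.one_lt.ne' this
  have hs := tower_step hp ht hidx h1
  have h2 := (hs (t - 1) (by omega)).1
  rw [show t - (t - 1) = 1 by omega, pow_one] at h2
  obtain ⟨y, hy⟩ := (Subgroup.isCyclic_iff_exists_zpowers_eq_top _).1 (isCyclic_of_prime_card h2)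
  have hsh : ∀ i : ℤ, g ^ (i + 1) * y * (g ^ (i + 1))⁻¹ = g * (g ^ i * y * (g ^ i)⁻¹) * g⁻¹ := fun i => by
    group
  have h3 : ∀ l : ℕ, l < t → tower P g (t - 1 - l) = seg (fun i => g ^ i * y * (g ^ i)⁻¹) 0 l := by
    intro l
    induction l with
    | zero => intro _; simp [seg_self, hy]
    | succ l ih =>
      intro hl
      rw [(hs (t - 1 - l) (by omega)).2.2.2 _ (by omega), ih (by omega)]
      have := cj_seg (x := fun i => g ^ i * y * (g ^ i)⁻¹) hsh 1 0 l
      rw [zpow_one] at this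
      rw [this]
      refine le_antisymm (sup_le (seg_mono le_rfl (by omega)) (seg_mono (by omega) (by omega)))
        (seg_le.2 fun j h4 h5 => ?_)
      rcases h4.eq_or_lt with rfl | h4
      · exact Subgroup.mem_sup_left (mem_seg (j := 0) le_rfl (by omega))
      · exact Subgroup.mem_sup_right (mem_seg (j := j) (by omega) (by omega))
  refine ⟨t, fun i => g ^ i * y * (g ^ i)⁻¹, ht1, ⟨hp, hsh, fun a b l h4 h5 => ?_⟩, ?_⟩
  · rcases l with _ | l
    · rw [seg_empty (by omega), Subgroup.card_bot, pow_zero]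
    · have := cj_seg (x := fun i => g ^ i * y * (g ^ i)⁻¹) hsh a 0 l
      rw [zero_add, show (l : ℤ) + a = b by omega] at this
      rw [← this, card_cj, ← h3 l (by omega), (hs _ (by omega)).1]
      congr 1
      omega
  · have := h3 (t - 1) (by omega)
    rw [Nat.sub_self, show ((t - 1 : ℕ) : ℤ) = t - 1 by omega] at this
    exact this

/-- the first step of Glauberman's theorem: `P` is a `p`-group -/
theorem isPGroup_of_normal {P : Subgroup G} {g : G} {p : ℕ} (hp : p.Prime)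
    (hN : ((P ⊓ cj g⁻¹ P).subgroupOf (cj g⁻¹ P)).Normal)
    (hidx : (P ⊓ cj g⁻¹ P).relIndex (cj g⁻¹ P) = p)
    (h1 : ∀ Q : Subgroup G, Q ≤ P → P ≤ 𝒩(Q) → g ∈ 𝒩(Q) → Q = ⊥) : IsPGroup p P := by
  have : Fact p.Prime := ⟨hp⟩
  have key : ∀ c : G, (∀ y ∈ P, (orderOf y).Coprime p → c * y * c⁻¹ ∈ P) →
      c ∈ 𝒩(Subgroup.closure {y | y ∈ P ∧ (orderOf y).Coprime p}) := fun c hc =>
    mem_norm_of_cj_le (by
      rw [cj_closure, Subgroup.closure_le]
      rintro _ ⟨y, hy, rfl⟩
      exact Subgroup.subset_closure ⟨hc y hy.1 hy.2, by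
        rw [show orderOf (c * y * c⁻¹) = orderOf y from (MulAut.conj c).orderOf_eq y]; exact hy.2⟩)
  have h2 := h1 _ ((Subgroup.closure_le _).2 fun _ hy => hy.1)
    (fun c hc => key c fun y hy _ => mul_mem (mul_mem hc hy) (inv_mem hc))
    (by
      simpa using inv_mem (key g⁻¹ fun y hy ho => by
        have h3 : g⁻¹ * y * g⁻¹⁻¹ ∈ cj g⁻¹ P := conj_mem_cj.2 hy
        have h4 := ((P ⊓ cj g⁻¹ P).subgroupOf (cj g⁻¹ P)).pow_index_mem ⟨_, h3⟩
        rw [show ((P ⊓ cj g⁻¹ P).subgroupOf (cj g⁻¹ P)).index = p from hidx] at h4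
        have h5 : (g⁻¹ * y * g⁻¹⁻¹) ^ p ∈ P := h4.1
        refine Subgroup.zpowers_le.2 h5 (mem_zpowers_pow_iff.2 ?_)
        rw [show orderOf (g⁻¹ * y * g⁻¹⁻¹) = orderOf y from (MulAut.conj g⁻¹).orderOf_eq y]
        exact ho.symm))
  refine (isPGroup_iff_primeFactors_card_subset hp.ne_zero).2 fun q hq => ?_
  have hq' := Nat.prime_of_mem_primeFactors hq
  have : Fact q.Prime := ⟨hq'⟩
  obtain ⟨y, hy⟩ := exists_prime_orderOf_dvd_card' (G := P) q (Nat.dvd_of_mem_primeFactors hq)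
  rw [hp.primeFactors, Finset.mem_singleton]
  by_contra hne
  have h3 : (y : G) ∈ Subgroup.closure {y | y ∈ P ∧ (orderOf y).Coprime p} :=
    Subgroup.subset_closure ⟨y.2, by
      rw [Subgroup.orderOf_coe, hy]; exact (Nat.coprime_primes hq' hp).2 hne⟩
  rw [h2, Subgroup.mem_bot] at h3
  rw [← Subgroup.orderOf_coe, h3, orderOf_one] at hy
  exact hq'.one_lt.ne hy

theorem relIndex_inf_cj (P : Subgroup G) (g : G) : (P ⊓ cj g P).relIndex (cj g P) = (P ⊓ cj g P).relIndex P := by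
  have h1 := ((P ⊓ cj g P).subgroupOf P).card_mul_index
  have h2 := ((P ⊓ cj g P).subgroupOf (cj g P)).card_mul_index
  rw [Nat.card_congr (Subgroup.subgroupOfEquivOfLe inf_le_left).toEquiv] at h1
  rw [Nat.card_congr (Subgroup.subgroupOfEquivOfLe inf_le_right).toEquiv, card_cj, ← h1] at h2
  exact Nat.eq_of_mul_eq_mul_left Nat.card_pos h2

end CfsgLib.Sims
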