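import Mathlib
import Cfsg.Agent.Lib.BG.AmbConj
import Cfsg.Agent.Lib.Core.Cores
import Cfsg.Agent.Lib.ThreeTrans.SymPres
import Cfsg.Agent.Lib.TwoGrp.Pres
import Cfsg.Agent.Lib.LocStr.CubicLoc

/-! Recognition of the small groups occurring in Sims' theorem. -/

set_option autoImplicit false

namespace CfsgLib.Sims

open Cfsg CfsgLib.BG Equiv

variable {G : Type*} [Group G]

/-- involutions `a`, `b` acting as the two standard transvections on the four-group `⟨v, w⟩` -/
structure Rel (a b v w : G) : Prop where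
  aa : a * a = 1
  bb : b * b = 1
  vv : v * v = 1
  ww : w * w = 1
  vw : v * w = w * v
  av : a * v = v * a
  aw : w * a = a * (v * w)
  bw : b * w = w * b
  bv : v * b = b * (v * w)

namespace Rel

variable {a b v w : G} (h : Rel a b v w)
include h

theorem map {K : Type*} [Group K] (f : G →* K) : Rel (f a) (f b) (f v) (f w) := by
  constructor <;> simp only [← map_mul, h.aa, h.bb, h.vv, h.ww, h.vw, h.av, h.aw, h.bw, h.bv, map_one]

theorem v_mul : v * (b * a) = b * a * w := by
  rw [← mul_assoc, h.bv, mul_assoc, mul_assoc, h.aw, ← mul_assoc v, ← h.av, mul_assoc a, ← mul_assoc v, h.vv,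
    one_mul, mul_assoc]

theorem w_mul : w * (b * a) = b * a * (v * w) := by
  rw [← mul_assoc, ← h.bw, mul_assoc, h.aw, mul_assoc]

theorem vw_mul : v * w * (b * a) = b * a * v := by
  rw [mul_assoc, h.w_mul, ← mul_assoc, h.v_mul, mul_assoc, h.vw, ← mul_assoc w, h.ww, one_mul]

theorem comm_v : Commute ((b * a) ^ 3) v := by
  symm
  change v * (b * a) ^ 3 = (b * a) ^ 3 * v
  rw [pow_three, ← mul_assoc, h.v_mul, mul_assoc _ w, ← mul_assoc w, h.w_mul, mul_assoc (b * a) (v * w), h.vw_mul]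
  simp only [mul_assoc]

theorem comm_w : Commute ((b * a) ^ 3) w := by
  symm
  change w * (b * a) ^ 3 = (b * a) ^ 3 * w
  rw [pow_three, ← mul_assoc, h.w_mul, mul_assoc _ (v * w), ← mul_assoc (v * w), h.vw_mul, mul_assoc (b * a) v,
    h.v_mul]
  simp only [mul_assoc]

theorem exists_hom (h3 : (b * a) ^ 3 = 1) (hv : v ≠ 1) :
    ∃ φ : Perm (Fin 4) →* G, Function.Injective φ ∧ φ.range = Subgroup.closure {a, b, v, w} := by
  have ia : a⁻¹ = a := inv_eq_of_mul_eq_one_right h.aa
  have ib : b⁻¹ = b := inv_eq_of_mul_eq_one_right h.bb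
  have h4 : a * v * (a * v) = 1 := by rw [mul_assoc, ← mul_assoc v, ← h.av, mul_assoc, h.vv, mul_one, h.aa]
  have braid : ∀ x y : G, x * x = 1 → y * y = 1 → (x * y) ^ 3 = 1 → x * y * x = y * x * y := fun x y hx hy e => by
    have e1 : x * y * x * (y * x * y) = 1 := by rw [← e, pow_three]; simp only [mul_assoc]
    rw [eq_inv_of_mul_eq_one_left e1, mul_inv_rev, mul_inv_rev, inv_eq_of_mul_eq_one_right hx,
      inv_eq_of_mul_eq_one_right hy, mul_assoc]
  have h5 : (b * (a * v)) ^ 3 = 1 := by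
    calc (b * (a * v)) ^ 3 = b * a * (v * (b * a)) * (v * (b * a)) * v := by rw [pow_three]; simp only [mul_assoc]
      _ = b * a * (b * a) * (w * (b * a)) * (w * v) := by rw [h.v_mul]; simp only [mul_assoc]
      _ = (b * a) ^ 3 * (v * (w * w) * v) := by rw [h.w_mul, pow_three]; simp only [mul_assoc]
      _ = 1 := by rw [h3, h.ww, mul_one, h.vv, mul_one]
  obtain ⟨φ, hφ⟩ := ThreeTrans.exists_hom_of_coxeter (n := 3)
    (f := fun i => if i = 0 then a else if i = 1 then b else a * v)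
    (fun i hi => by interval_cases i <;> simp [h.aa, h.bb, h4])
    (fun i hi => by
      have : i = 0 ∨ i = 1 := by omega
      rcases this with rfl | rfl
      · simpa using (braid b a h.bb h.aa h3).symm
      · simpa using braid b (a * v) h.bb h4 h5)
    (fun i j h1 h2 => by
      obtain ⟨rfl, rfl⟩ : i = 0 ∧ j = 2 := by omega
      simpa using (Commute.refl a).mul_right h.av)
  have e1 : φ (swap 0 1) = a := by simpa [ThreeTrans.coxSwap, ThreeTrans.coxWord_zero] using hφ 0 1
  have e2 : φ (swap 1 2) = b := by simpa [ThreeTrans.coxSwap, ThreeTrans.coxWord_zero] using hφ 1 2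
  have e3 : φ (swap 2 3) = a * v := by simpa [ThreeTrans.coxSwap, ThreeTrans.coxWord_zero] using hφ 2 3
  refine ⟨φ, ThreeTrans.injective_of_swaps' φ (a := 0) (b := 1) (c := 2) (by decide) (by decide) (by decide)
    (fun hc => hv ?_) (Or.inr ⟨3, by decide, by decide, by decide, fun e => hv ?_⟩), le_antisymm ?_ ?_⟩
  · rw [e1, e2] at hc
    have h6 : b * a = 1 := by
      rw [pow_three, ← mul_assoc, mul_assoc b a, ← mul_assoc a, hc.eq, mul_assoc b a a, h.aa, mul_one, h.bb,
        one_mul] at h3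
      exact h3
    have h7 := h.w_mul
    rw [h6, mul_one, one_mul] at h7
    exact mul_right_cancel (h7.symm.trans (one_mul w).symm)
  · rw [e1, e3] at e
    exact mul_left_cancel (e.symm.trans (mul_one a).symm)
  · have h6 : (⊤ : Subgroup (Perm (Fin 4))) ≤ (Subgroup.closure {a, b, v, w}).comap φ := by
      have ha : a ∈ Subgroup.closure ({a, b, v, w} : Set G) := Subgroup.subset_closure (by simp)
      have hb : b ∈ Subgroup.closure ({a, b, v, w} : Set G) := Subgroup.subset_closure (by simp)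
      have hv : v ∈ Subgroup.closure ({a, b, v, w} : Set G) := Subgroup.subset_closure (by simp)
      have := Perm.mclosure_swap_castSucc_succ 3
      intro g _
      have hg : g ∈ Submonoid.closure (Set.range fun i : Fin 3 => swap i.castSucc i.succ) := this ▸ trivial
      refine (Submonoid.closure_le (S := ((Subgroup.closure {a, b, v, w}).comap φ).toSubmonoid)).2 ?_ hg
      rintro _ ⟨i, rfl⟩
      fin_cases i
      · exact show φ (swap 0 1) ∈ Subgroup.closure {a, b, v, w} by rw [e1]; exact ha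
      · exact show φ (swap 1 2) ∈ Subgroup.closure {a, b, v, w} by rw [e2]; exact hb
      · exact show φ (swap 2 3) ∈ Subgroup.closure {a, b, v, w} by rw [e3]; exact mul_mem ha hv
    rintro _ ⟨g, rfl⟩
    exact h6 (Subgroup.mem_top g)
  · have ha : a ∈ φ.range := ⟨_, e1⟩
    have hb : b ∈ φ.range := ⟨_, e2⟩
    have hv : v ∈ φ.range := by simpa using mul_mem (inv_mem ha) (show a * v ∈ φ.range from ⟨_, e3⟩)
    have hw : w ∈ φ.range := by
      have := mul_mem (inv_mem (mul_mem hb ha)) (mul_mem hv (mul_mem hb ha))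
      rwa [h.v_mul, inv_mul_cancel_left] at this
    rw [Subgroup.closure_le]
    rintro x (rfl | rfl | rfl | rfl) <;> assumption

theorem equiv_S4 (h3 : (b * a) ^ 3 = 1) (hv : v ≠ 1) (hg : Subgroup.closure {a, b, v, w} = ⊤) :
    Nonempty (G ≃* Perm (Fin 4)) := by
  obtain ⟨φ, h1, h2⟩ := h.exists_hom h3 hv
  exact ⟨(MulEquiv.ofBijective φ ⟨h1, MonoidHom.range_eq_top.1 (h2.trans hg)⟩).symm⟩

theorem equiv_S4_C2 [Finite G] (h3 : (b * a) ^ 3 = 1) (hv : v ≠ 1) {z : G} (hz : z ≠ 1) (hzz : z * z = 1)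
    (hc : ∀ g, g * z = z * g) (hg : Subgroup.closure {a, b, v, w} ⊔ Subgroup.zpowers z = ⊤) :
    Nonempty (G ≃* Perm (Fin 4) × Multiplicative (ZMod 2)) := by
  obtain ⟨φ, h1, h2⟩ := h.exists_hom h3 hv
  have h4 : z ∉ φ.range := by
    rintro ⟨g, rfl⟩
    have : ∀ g : Perm (Fin 4), swap 0 1 * g = g * swap 0 1 → swap 1 2 * g = g * swap 1 2 →
        swap 2 3 * g = g * swap 2 3 → g = 1 := by decide
    exact hz (by
      rw [this g (h1 (by rw [map_mul, map_mul, hc])) (h1 (by rw [map_mul, map_mul, hc]))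
        (h1 (by rw [map_mul, map_mul, hc])), map_one])
  have h5 : φ.range.index = 2 := Subgroup.index_eq_two_iff_exists_notMem_and.2 ⟨z, h4, fun g => by
    obtain ⟨m, hm, _, ⟨i, rfl⟩, rfl⟩ := (mem_sup_norm_l (H := φ.range) (K := Subgroup.zpowers z)
      (Subgroup.zpowers_le.2 (Subgroup.centralizer_le_normalizer _ fun g _ => hc g))).1
      (by rw [h2, hg]; exact Subgroup.mem_top g)
    have h6 : z ^ (2 : ℤ) = 1 := by rw [zpow_two, hzz]
    rcases Int.even_or_odd' i with ⟨k, rfl | rfl⟩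
    · right; simpa [zpow_mul, h6] using hm
    · left; simpa [zpow_add, zpow_mul, h6, mul_assoc, hzz] using hm⟩
  obtain ⟨e⟩ := LocStr.nonempty_equiv_prod_of_central h5 h4 hzz hc
  exact ⟨e.trans (MulEquiv.prodComm.trans (MulEquiv.prodCongr (MonoidHom.ofInjective h1).symm (MulEquiv.refl _)))⟩

end Rel

theorem equiv_four {a z : G} (ha : a * a = 1) (hz : z * z = 1) (hc : a * z = z * a) (h1 : a ≠ 1) (h2 : z ≠ 1)
    (h3 : a ≠ z) (hg : Subgroup.zpowers z ⊔ Subgroup.zpowers a = ⊤) :
    Nonempty (G ≃* Multiplicative (ZMod 2) × Multiplicative (ZMod 2)) := by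
  have ho : orderOf z = 2 := orderOf_eq_prime (by rw [pow_two, hz]) h2
  obtain ⟨e⟩ := TwoGrp.nonempty_sup_mulEquiv_dihedral ho ha
    (by rw [hc, mul_inv_cancel_right, inv_eq_of_mul_eq_one_right hz]) (by
      rintro ⟨i, rfl⟩
      have h6 : z ^ (2 : ℤ) = 1 := by rw [zpow_two, hz]
      rcases Int.even_or_odd' i with ⟨k, rfl | rfl⟩
      · exact h1 (by simp [zpow_mul, h6])
      · exact h3 (by simp [zpow_add, zpow_mul, h6]))
  have : IsKleinFour (Multiplicative (ZMod 2) × Multiplicative (ZMod 2)) :=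
    ⟨by simp, by
      rw [Monoid.exponent_prod, (isCyclic_multiplicative (α := ZMod 2)).exponent_eq_card]; simp⟩
  obtain ⟨e'⟩ := IsKleinFour.nonempty_mulEquiv (G₁ := DihedralGroup 2)
    (G₂ := Multiplicative (ZMod 2) × Multiplicative (ZMod 2))
  exact ⟨(Subgroup.topEquiv.symm.trans ((MulEquiv.subgroupCongr hg.symm).trans e)).trans e'⟩

theorem equiv_dihedral [Finite G] {a r : G} {n : ℕ} (ha : a * a = 1) (hi : a * r * a⁻¹ = r⁻¹)
    (hg : Subgroup.zpowers r ⊔ Subgroup.zpowers a = ⊤) (hn : 2 ≤ n) (hc : Nat.card G = 2 * n) :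
    Nonempty (G ≃* DihedralGroup n) := by
  have h1 : a ∉ Subgroup.zpowers r := fun e => by
    rw [sup_eq_left.2 (Subgroup.zpowers_le.2 e)] at hg
    obtain ⟨i, rfl⟩ := e
    have h2 : r ^ 2 = 1 := by
      rw [((Commute.refl r).zpow_left i).eq, mul_inv_cancel_right, eq_inv_iff_mul_eq_one] at hi
      rw [pow_two, hi]
    have h3 := Nat.le_of_dvd two_pos (orderOf_dvd_of_pow_eq_one h2)
    rw [← Nat.card_zpowers, hg, Subgroup.card_top] at h3
    omega
  obtain ⟨e⟩ := TwoGrp.nonempty_sup_mulEquiv_dihedral rfl ha hi h1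
  have e' := Subgroup.topEquiv.symm.trans ((MulEquiv.subgroupCongr hg.symm).trans e)
  have h2 := Nat.card_congr e'.toEquiv
  rw [DihedralGroup.nat_card, hc] at h2
  rw [show n = orderOf r by omega]
  exact ⟨e'⟩

theorem dihedral_three : Nonempty (DihedralGroup 3 ≃* Perm (Fin 3)) := by
  obtain ⟨f, hf, -⟩ := TwoGrp.exists_dihedral_hom (r := (finRotate 3 : Perm (Fin 3))) (s := swap 0 1) (n := 3)
    (orderOf_eq_prime (by decide) (by decide)) (by decide) (by decide) (fun h => by
      obtain ⟨i, hi⟩ := h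
      have := congrArg Perm.sign hi
      simp at this)
  exact ⟨MulEquiv.ofBijective f (hf.bijective_of_nat_card_le (by
    rw [DihedralGroup.nat_card, Nat.card_perm, Nat.card_fin]; rfl))⟩

end CfsgLib.Sims
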