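import Mathlib
import Cfsg.Agent.Lib.Sims.Exist
import Cfsg.Agent.Lib.Sims.Small

/-! Sims' theorem in local form (Glauberman 1969, Theorem 2). -/

set_option autoImplicit false

namespace CfsgLib.Sims

open Cfsg CfsgLib.BG Equiv

variable {G : Type*} [Group G]

theorem mk_ne_one [Finite G] {v : G} (hv : v * v = 1) (h1 : v ≠ 1) :
    QuotientGroup.mk' (oddCore G) v ≠ 1 := fun e => by
  have h2 : orderOf v = 2 := orderOf_eq_prime (by rw [pow_two, hv]) h1
  have h3 := Subgroup.orderOf_dvd_natCard _ ((QuotientGroup.eq_one_iff v).1 e)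
  rw [h2] at h3
  exact (Nat.not_even_iff_odd.2 (Core.odd_card_oddCore G)) (even_iff_two_dvd.2 h3)

theorem mk_eq_one {r : G} (ho : Odd (orderOf r)) (hn : ⊤ ≤ 𝒩(Subgroup.zpowers r)) :
    QuotientGroup.mk' (oddCore G) r = 1 := by
  have : (Subgroup.zpowers r).Normal := Subgroup.normalizer_eq_top_iff.1 (top_le_iff.1 hn)
  exact (QuotientGroup.eq_one_iff r).2 (Core.le_pPrimeCore (N := Subgroup.zpowers r)
    (by rw [Nat.card_zpowers]; exact Nat.coprime_two_right.2 ho) (Subgroup.mem_zpowers r))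

theorem inv_mul_pow {a b : G} (ha : a * a = 1) (hb : b * b = 1) (n : ℕ) :
    a * (b * a) ^ n * a⁻¹ = ((b * a) ^ n)⁻¹ ∧ b * (b * a) ^ n * b⁻¹ = ((b * a) ^ n)⁻¹ := by
  rw [← conj_pow, ← conj_pow, ← inv_pow, mul_inv_rev, inv_eq_of_mul_eq_one_right ha, inv_eq_of_mul_eq_one_right hb,
    mul_assoc, mul_assoc, ha, mul_one, ← mul_assoc b b, hb, one_mul]
  exact ⟨rfl, rfl⟩

theorem mem_norm_zpowers_of_comm {c r : G} (h : Commute r c) : c ∈ 𝒩(Subgroup.zpowers r) := by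
  rw [mem_norm_iff, cj_zpowers, ← h.eq, mul_inv_cancel_right]

theorem Rel.quot [Finite G] {a b v w z : G} (h : Rel a b v w) (ho : Odd (orderOf (b * a))) (hv : v ≠ 1)
    (hc : ∀ g, g * z = z * g) (hg : Subgroup.closure {a, b, v, w} ⊔ Subgroup.zpowers z = ⊤) :
    (z = 1 → Nonempty (G ⧸ oddCore G ≃* Perm (Fin 4))) ∧
    (z ≠ 1 → z * z = 1 → Nonempty (G ⧸ oddCore G ≃* Perm (Fin 4) × Multiplicative (ZMod 2))) := by
  have h3 : (QuotientGroup.mk' (oddCore G) b * QuotientGroup.mk' (oddCore G) a) ^ 3 = 1 := by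
    rw [← map_mul, ← map_pow]
    refine mk_eq_one (ho.of_dvd_nat (orderOf_pow_dvd 3)) (hg.ge.trans (sup_le ((Subgroup.closure_le _).2 ?_)
      (Subgroup.zpowers_le.2 (mem_norm_zpowers_of_comm (hc _)))))
    rintro x (rfl | rfl | rfl | rfl)
    exacts [TwoGrp.mem_normalizer_zpowers_of_inv (inv_mul_pow h.aa h.bb 3).1,
      TwoGrp.mem_normalizer_zpowers_of_inv (inv_mul_pow h.aa h.bb 3).2, mem_norm_zpowers_of_comm h.comm_v,
      mem_norm_zpowers_of_comm h.comm_w]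
  have h4 := congrArg (Subgroup.map (QuotientGroup.mk' (oddCore G))) hg
  rw [Subgroup.map_sup, MonoidHom.map_closure, MonoidHom.map_zpowers,
    Subgroup.map_top_of_surjective _ (QuotientGroup.mk'_surjective _)] at h4
  simp only [Set.image_insert_eq, Set.image_singleton] at h4
  refine ⟨fun e => (h.map _).equiv_S4 h3 (mk_ne_one h.vv hv) (by simpa [e] using h4), fun h1 h2 =>
    (h.map _).equiv_S4_C2 h3 (mk_ne_one h.vv hv) (mk_ne_one h2 h1) (by rw [← map_mul, h2, map_one])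
      (fun g => ?_) h4⟩
  obtain ⟨g, rfl⟩ := QuotientGroup.mk'_surjective _ g
  rw [← map_mul, hc, map_mul]

theorem quot_four [Finite G] {a b z : G} (ha : a * a = 1) (hb : b * b = 1) (hz : z * z = 1)
    (ho : Odd (orderOf (b * a))) (hc : ∀ g, g * z = z * g)
    (hg : Subgroup.closure {a, b} ⊔ Subgroup.zpowers z = ⊤) :
    (∃ r : G, a * r * a⁻¹ = r⁻¹ ∧ Subgroup.zpowers r ⊔ Subgroup.zpowers a = ⊤) ∧
    (a ≠ 1 → z ≠ 1 → a ≠ z →
      Nonempty (G ⧸ oddCore G ≃* Multiplicative (ZMod 2) × Multiplicative (ZMod 2))) := by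
  have hi := inv_mul_pow ha hb 1
  rw [pow_one] at hi
  refine ⟨⟨b * a * z, ?_, top_le_iff.1 (hg.ge.trans ?_)⟩, fun h1 h2 h3 => ?_⟩
  · rw [mul_inv_rev, inv_eq_of_mul_eq_one_right hz, ← hi.1, ← hc, ← mul_assoc, mul_assoc _ z, ← hc, ← mul_assoc]
  · have h4 : z ∈ Subgroup.zpowers (b * a * z) ⊔ Subgroup.zpowers a := Subgroup.mem_sup_left (by
      obtain ⟨k, hk⟩ := ho
      refine ⟨orderOf (b * a), ?_⟩
      simp only [zpow_natCast]
      rw [Commute.mul_pow (hc _), pow_orderOf_eq_one, one_mul, hk, pow_succ, pow_mul, pow_two, hz, one_pow, one_mul])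
    have h5 : a ∈ Subgroup.zpowers (b * a * z) ⊔ Subgroup.zpowers a := Subgroup.mem_sup_right (Subgroup.mem_zpowers _)
    refine sup_le ((Subgroup.closure_le _).2 ?_) (Subgroup.zpowers_le.2 h4)
    rintro x (rfl | rfl)
    · exact h5
    · simpa using mul_mem (mul_mem (Subgroup.mem_sup_left (Subgroup.mem_zpowers _)) (inv_mem h4)) (inv_mem h5)
  · have h4 : QuotientGroup.mk' (oddCore G) (b * a) = 1 := by
      refine mk_eq_one ho (hg.ge.trans (sup_le ((Subgroup.closure_le _).2 ?_)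
        (Subgroup.zpowers_le.2 (mem_norm_zpowers_of_comm (hc _)))))
      rintro x (rfl | rfl)
      exacts [TwoGrp.mem_normalizer_zpowers_of_inv hi.1, TwoGrp.mem_normalizer_zpowers_of_inv hi.2]
    have h5 := congrArg (Subgroup.map (QuotientGroup.mk' (oddCore G))) hg
    rw [Subgroup.map_sup, MonoidHom.map_closure, MonoidHom.map_zpowers,
      Subgroup.map_top_of_surjective _ (QuotientGroup.mk'_surjective _)] at h5
    refine equiv_four (a := QuotientGroup.mk' (oddCore G) a) (z := QuotientGroup.mk' (oddCore G) z)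
      (by rw [← map_mul, ha, map_one]) (by rw [← map_mul, hz, map_one]) (by rw [← map_mul, hc, map_mul])
      (mk_ne_one ha h1) (mk_ne_one hz h2) (fun e => mk_ne_one (v := a * z) ?_ (fun e' => h3 ?_) ?_)
      (top_le_iff.1 (h5.ge.trans (sup_le ((Subgroup.closure_le _).2 ?_) le_sup_left)))
    · rw [mul_assoc, ← mul_assoc z, ← hc, mul_assoc, hz, mul_one, ha]
    · exact mul_right_cancel (e'.trans hz.symm)
    · rw [map_mul, e, ← map_mul, hz, map_one]
    · rintro _ ⟨x, rfl | rfl, rfl⟩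
      · exact Subgroup.mem_sup_right (Subgroup.mem_zpowers _)
      · rw [map_mul] at h4
        rw [eq_inv_of_mul_eq_one_left h4]
        exact Subgroup.mem_sup_right (inv_mem (Subgroup.mem_zpowers _))

theorem Rel.mul {a b v w s : G} (h : Rel a b v w) (hs : s * s = 1) (h1 : Commute s b) (h2 : Commute s v)
    (h3 : Commute s w) : Rel a (b * s) v w :=
  { h with
    bb := by rw [mul_assoc, ← mul_assoc s, h1.eq, mul_assoc, hs, mul_one, h.bb]
    bw := by rw [mul_assoc, h3.eq, ← mul_assoc, h.bw, mul_assoc]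
    bv := by rw [← mul_assoc, h.bv, mul_assoc, ← (h2.mul_right h3).eq, ← mul_assoc] }

theorem sup_eq_top_of {H : Subgroup G} {S : Set H} {z : H}
    (h : H ≤ Subgroup.closure (Subtype.val '' S) ⊔ Subgroup.zpowers (z : G)) :
    Subgroup.closure S ⊔ Subgroup.zpowers z = ⊤ := by
  refine Subgroup.map_injective H.subtype_injective ?_
  rw [Subgroup.map_sup, MonoidHom.map_closure, MonoidHom.map_zpowers, ← MonoidHom.range_eq_map,
    Subgroup.range_subtype]
  refine le_antisymm (sup_le ((Subgroup.closure_le _).2 ?_) (Subgroup.zpowers_le.2 z.2)) h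
  rintro _ ⟨x, -, rfl⟩
  exact x.2

theorem sq_seg {x : ℤ → G} {a b : ℤ} (h2 : ∀ i, x i * x i = 1)
    (hc : ∀ i j, a ≤ i → i ≤ b → a ≤ j → j ≤ b → Commute (x i) (x j)) {w : G} (hw : w ∈ seg x a b) :
    w * w = 1 := by
  induction hw using Subgroup.closure_induction with
  | mem y hy => obtain ⟨j, -, -, rfl⟩ := hy; exact h2 j
  | one => exact one_mul 1
  | mul u v hu hv iu iv =>
    have c : Commute u v := commute_seg (fun j h1 h3 => (commute_seg (fun i h4 h5 => hc j i h1 h3 h4 h5) hu).symm) hv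
    rw [mul_assoc, ← mul_assoc v, ← c.eq, mul_assoc, iv, mul_one, iu]
  | inv u _ iu => rw [← mul_inv_rev, iu, inv_one]

theorem commute_of_odd {r u z : G} {m : ℕ} (hm : Odd m) (h1 : u * r = r * (u * z)) (hz : z * z = 1)
    (h2 : Commute z r) (h3 : Commute (r ^ m) u) : Commute r u := by
  obtain ⟨k, rfl⟩ := hm
  have h4 : Commute (r ^ 2) u := by
    symm
    change u * r ^ 2 = r ^ 2 * u
    rw [pow_two, ← mul_assoc, h1, mul_assoc, mul_assoc, h2.eq, ← mul_assoc u, h1]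
    simp only [mul_assoc, hz, mul_one]
  rw [pow_succ, pow_mul] at h3
  simpa using (h4.pow_left k).inv_left.mul_left h3

theorem le_of_norm_of_odd [Finite G] {H P N : Subgroup G} (hP : IsPGroup 2 P) (hPH : P ≤ H)
    (hodd : ¬ 2 ∣ P.relIndex H) (hN : IsPGroup 2 N) (hNH : N ≤ H) (hn : P ≤ 𝒩(N)) : N ≤ P := by
  obtain ⟨l, hl⟩ := (hP.to_sup_of_normal_right' hN hn).exists_card_eq
  obtain ⟨j, -, h1⟩ := (Nat.dvd_prime_pow Nat.prime_two).1 (hl ▸ Subgroup.relIndex_dvd_card P (P ⊔ N))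
  have h2 := Subgroup.relIndex_mul_relIndex P (P ⊔ N) H le_sup_left (sup_le hPH hNH)
  rcases j with _ | j
  · exact le_sup_right.trans (Subgroup.relIndex_eq_one.1 h1)
  · exact absurd (by rw [← h2, h1, pow_succ']; exact (dvd_mul_right _ _).mul_right _) hodd

theorem Chain.sq {t : ℕ} {x : ℤ → G} {g : G} (h : Chain 2 t x g) (ht : 1 ≤ t) (i : ℤ) : x i * x i = 1 := by
  rw [← pow_two, ← h.orderOf_eq ht i, pow_orderOf_eq_one]

theorem Chain.six [Finite G] {x : ℤ → G} {g : G} (h : Chain 2 6 x g)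
    (hc : ∀ i j : ℤ, i - j < (4 : ℕ) → j - i < (4 : ℕ) → Commute (x i) (x j)) (hn : ¬ Commute (x 0) (x (4 : ℕ))) :
    x 5 ∈ 𝒩(seg x 0 3) := by
  refine mem_norm_of_cj_le (cj_le_iff_le_cj_inv.2 (seg_le.2 fun j h1 h2 => mem_cj_inv.2 ?_))
  have i0 : (x 0)⁻¹ = x 0 := inv_eq_of_mul_eq_one_right (h.sq (by omega) 0)
  obtain rfl | rfl | h3 : j = 0 ∨ j = 1 ∨ 2 ≤ j := by omega
  · have hu := h.comm_mem (a := 0) (b := 5) (by omega) (by omega) (mem_seg (j := 0) le_rfl (by omega))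
      (mem_seg (j := 5) (by omega) le_rfl)
    have h4 := sq_seg (h.sq (by omega)) (fun i j _ _ _ _ => hc i j (by omega) (by omega)) hu
    have h5 : Commute (x 0) (x 0 * x 5 * (x 0)⁻¹ * (x 5)⁻¹) := by
      refine mul_inv_eq_iff_eq_mul.1 (Eq.trans ?_ (inv_eq_of_mul_eq_one_right h4))
      calc _ = x 0 * x 0 * x 5 * (x 0)⁻¹ * (x 5)⁻¹ * (x 0)⁻¹ := by group
        _ = x 5 * (x 0)⁻¹⁻¹ * (x 5)⁻¹ * (x 0)⁻¹ := by rw [h.sq (by omega), one_mul, i0, i0]
        _ = _ := by group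
    obtain ⟨e, w, hw, e1⟩ := h.decomp_right (by omega) (by omega) hu
    have h6 : Commute (x 0) w := commute_seg (fun j _ _ => hc _ _ (by omega) (by omega)) hw
    rcases h.zpow_eq_one_or (by omega) (5 - 1) e with h7 | ⟨m, h7⟩
    · rw [h7, one_mul] at e1
      have := mul_mem (mem_seg (x := x) (j := 0) (a := 0) (b := 3) le_rfl (by omega))
        (seg_mono (by omega) (by omega) hw)
      rwa [← e1, ← mul_assoc, ← mul_assoc, ← mul_assoc, h.sq (by omega), one_mul, i0] at this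
    · rw [e1] at h5
      have h8 : Commute (x 0) (x (5 - 1) ^ e) := by simpa using h5.mul_right h6.inv_right
      exact absurd (show Commute (x 0) (x (5 - 1)) by rw [← h7]; exact h8.zpow_right m) hn
  · have h4 := (conj_mem_cj (g := g ^ (1 : ℤ))).2 (inv_mem (h.comm_mem_mid (by omega) hc hn))
    rw [cj_seg h.shift, zpow_one] at h4
    have h5 := mul_mem (seg_mono (a' := 0) (b' := 3) (by omega) (by omega) h4) (mem_seg (j := 1) h1 h2)
    have s0 : x 1 = g * x 0 * g⁻¹ := h.shift 0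
    have s4 : x 5 = g * x (4 : ℕ) * g⁻¹ := h.shift 4
    convert h5 using 1
    rw [s0, s4]
    group
  · rw [(hc 5 j (by omega) (by omega)).eq, mul_inv_cancel_right]
    exact mem_seg h1 h2

theorem eq_of_mem_zpowers {x c : G} (hx : x * x = 1) (hc : c ∈ Subgroup.zpowers x) : c = 1 ∨ c = x := by
  obtain ⟨i, rfl⟩ := hc
  have h6 : x ^ (2 : ℤ) = 1 := by rw [zpow_two, hx]
  rcases Int.even_or_odd' i with ⟨k, rfl | rfl⟩
  · left; simp [zpow_mul, h6]
  · right; simp [zpow_add, zpow_mul, h6]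

theorem mul_eq_of_comm {a b c : G} (ha : a * a = 1) (hb : b * b = 1) (h : a * b * a⁻¹ * b⁻¹ = c) :
    b * a = a * (c * b) ∧ a * b = b * (a * c) := by
  rw [inv_eq_of_mul_eq_one_right ha, inv_eq_of_mul_eq_one_right hb] at h
  rw [← h]
  constructor
  · rw [mul_assoc _ b b, hb, mul_one, ← mul_assoc, ← mul_assoc, ha, one_mul]
  · simp only [← mul_assoc]
    rw [mul_assoc b a a, ha, mul_one, hb, one_mul]

/-- the possibilities for a group `H` with Sylow `2`-subgroup `P` -/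
def Concl (H P : Subgroup G) : Prop :=
  ((Nat.card P = 2 ∨ Nat.card P = 4 ∧
      Nonempty (H ⧸ oddCore H ≃* Multiplicative (ZMod 2) × Multiplicative (ZMod 2))) ∧
    ∃ a r : H, a * a = 1 ∧ a * r * a⁻¹ = r⁻¹ ∧ Subgroup.zpowers r ⊔ Subgroup.zpowers a = ⊤) ∨
  (Nat.card P = 8 ∧ Nonempty (H ⧸ oddCore H ≃* Perm (Fin 4))) ∨
  (Nat.card P = 16 ∧ Nonempty (H ⧸ oddCore H ≃* Perm (Fin 4) × Multiplicative (ZMod 2)))

theorem Chain.exists_odd [Finite G] {t : ℕ} {x : ℤ → G} {g : G} (h : Chain 2 t x g) (ht : 1 ≤ t)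
    (hodd : ¬ 2 ∣ (seg x 0 (t - 1)).relIndex (seg x 0 t))
    (hidx : (seg x 0 (t - 1) ⊓ seg x 1 t).relIndex (seg x 0 (t - 1)) = 2) {c : G} (hc : c ∈ seg x 0 t)
    (e : cj c (seg x 0 (t - 1)) = seg x 1 t) :
    ∃ m : ℕ, Odd m ∧ (x t * x 0) ^ m ∈ seg x 1 (t - 1) := by
  obtain ⟨k, m, hm, e1⟩ := Nat.exists_eq_two_pow_mul_odd (orderOf_pos (x t * x 0)).ne'
  refine ⟨m, hm, ?_⟩
  have h1 : IsPGroup 2 (Subgroup.zpowers ((x t * x 0) ^ m)) := by
    obtain ⟨j, -, hj⟩ := (Nat.dvd_prime_pow Nat.prime_two).1 (orderOf_dvd_of_pow_eq_one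
      (show ((x t * x 0) ^ m) ^ 2 ^ k = 1 by rw [← pow_mul, mul_comm m, ← e1, pow_orderOf_eq_one]))
    exact IsPGroup.of_card (by rw [Nat.card_zpowers, hj])
  have h2 : seg x 0 t ≤ 𝒩(seg x 1 (t - 1)) := seg_le.2 fun j h3 h4 => by
    rcases h4.eq_or_lt with rfl | h4
    · exact h.norm_right (by omega) (by omega) (mem_seg (by omega) le_rfl)
    · exact h.norm_left (a := 0) (by omega) (by omega) (mem_seg h3 (by omega))
  have h3 : (x t * x 0) ^ m ∈ seg x 0 t := pow_mem (mul_mem (mem_seg (by omega) le_rfl) (mem_seg le_rfl (by omega))) m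
  have hi := inv_mul_pow (h.sq ht 0) (h.sq ht t) m
  have h4 : seg x 0 t ≤ 𝒩(Subgroup.zpowers ((x t * x 0) ^ m) ⊔ seg x 1 (t - 1)) := seg_le.2 fun j h5 h6 => by
    obtain rfl | rfl | h7 : j = 0 ∨ j = t ∨ (1 ≤ j ∧ j ≤ t - 1) := by omega
    · rw [mem_norm_iff, cj_sup, cj_eq_of_mem_norm (h2 (mem_seg h5 h6)),
        cj_eq_of_mem_norm (TwoGrp.mem_normalizer_zpowers_of_inv hi.1)]
    · rw [mem_norm_iff, cj_sup, cj_eq_of_mem_norm (h2 (mem_seg h5 h6)),
        cj_eq_of_mem_norm (TwoGrp.mem_normalizer_zpowers_of_inv hi.2)]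
    · exact Subgroup.le_normalizer (Subgroup.mem_sup_right (mem_seg h7.1 h7.2))
  have h5 := le_of_norm_of_odd (h.pgroup (by omega)) (seg_mono le_rfl (by omega)) hodd
    (h1.to_sup_of_normal_right' (h.pgroup (by omega)) (Subgroup.zpowers_le.2 (h2 h3)))
    (sup_le (Subgroup.zpowers_le.2 h3) (seg_mono (by omega) (by omega))) ((seg_mono le_rfl (by omega)).trans h4)
  have h6 := cj_mono c h5
  rw [cj_eq_of_mem_norm (h4 hc), e] at h6
  rcases Core.eq_or_eq_of_relIndex_prime (H := seg x (0 + 1) (t - 1)) (L := seg x 0 (t - 1) ⊓ seg x 1 t)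
    (K := seg x 0 (t - 1)) (by rw [h.relIndex_left (by omega) (by omega)]; exact Nat.prime_two)
    (le_inf (seg_mono (by omega) le_rfl) (seg_mono (by omega) (by omega))) inf_le_left with h7 | h7
  · exact h7.le ⟨h5 (Subgroup.mem_sup_left (Subgroup.mem_zpowers _)), h6 (Subgroup.mem_sup_left (Subgroup.mem_zpowers _))⟩
  · rw [h7, Subgroup.relIndex_self] at hidx
    omega

theorem Chain.concl [Finite G] {t k m : ℕ} {x : ℤ → G} {g : G} (h : Chain 2 t x g) (ht : 1 ≤ t) (hm : Odd m)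
    (hs : (x t * x 0) ^ m ∈ seg x 1 (t - 1)) (hc : ∀ i j : ℤ, i - j < k → j - i < k → Commute (x i) (x j))
    (hk : (t ≤ 2 ∧ k = t) ∨ (((t = 3 ∧ k = 2) ∨ (t = 4 ∧ k = 3)) ∧ ¬ Commute (x 0) (x k))) :
    Concl (seg x 0 t) (seg x 0 (t - 1)) := by
  have h2 := h.sq ht
  have hi := inv_mul_pow (h2 0) (h2 t) m
  set s := (x t * x 0) ^ m with hs'
  have hss : s * s = 1 := sq_seg h2 (fun i j _ _ _ _ => hc i j (by omega) (by omega)) hs
  rw [inv_eq_of_mul_eq_one_right hss, mul_inv_eq_iff_eq_mul, mul_inv_eq_iff_eq_mul] at hi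
  have hsM : ∀ j : ℤ, 1 ≤ j → j ≤ t - 1 → Commute s (x j) := fun j h3 h4 =>
    (commute_seg (fun i _ _ => hc j i (by omega) (by omega)) hs).symm
  have ho : Odd (orderOf (x t * s * x 0)) := hm.of_dvd_nat (orderOf_dvd_of_pow_eq_one (by
    have c : Commute (x t * x 0) s := (Commute.refl _).pow_right m
    obtain ⟨j, rfl⟩ := hm
    rw [mul_assoc, ← hi.1, ← mul_assoc, c.mul_pow, ← hs', pow_succ s, pow_mul, pow_two, hss, one_pow, one_mul, hss]))
  have hbb : x t * s * (x t * s) = 1 := by rw [mul_assoc, ← mul_assoc s, ← hi.2, mul_assoc, hss, mul_one, h2]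
  have m0 : x 0 ∈ seg x 0 t := mem_seg le_rfl (by omega)
  have mt : x t * s ∈ seg x 0 t := mul_mem (mem_seg (by omega) le_rfl) (seg_mono (by omega) (by omega) hs)
  have hgen : ∀ K : Subgroup G, x 0 ∈ K → x t * s ∈ K → (∀ j : ℤ, 1 ≤ j → j ≤ t - 1 → x j ∈ K) →
      seg x 0 t ≤ K := fun K k0 kt kj => seg_le.2 fun j h3 h4 => by
    obtain rfl | rfl | h7 : j = 0 ∨ j = t ∨ (1 ≤ j ∧ j ≤ t - 1) := by omega
    · exact k0
    · simpa using mul_mem kt (inv_mem (seg_le.2 kj hs))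
    · exact kj j h7.1 h7.2
  have hne : ∀ i, x i ≠ 1 := fun i e => by simpa [e] using h.orderOf_eq ht i
  have hcard : Nat.card (seg x 0 (t - 1)) = 2 ^ t := h.card _ _ t le_rfl (by omega)
  have ho' : Odd (orderOf ((⟨_, mt⟩ : seg x 0 t) * ⟨_, m0⟩)) := by rw [← Subgroup.orderOf_coe]; exact ho
  have s0 : x 1 = g * x 0 * g⁻¹ := h.shift 0
  have s1 : x 2 = g * x 1 * g⁻¹ := h.shift 1
  have s2 : x 3 = g * x 2 * g⁻¹ := h.shift 2
  have s3 : x 4 = g * x 3 * g⁻¹ := h.shift 3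
  rcases hk with ⟨h3, rfl⟩ | ⟨⟨rfl, rfl⟩ | ⟨rfl, rfl⟩, hn⟩
  · left
    obtain rfl | rfl : k = 1 ∨ k = 2 := by omega
    · obtain ⟨⟨r, h4⟩, -⟩ := quot_four (a := (⟨_, m0⟩ : seg x 0 (1 : ℕ))) (b := ⟨_, mt⟩) (z := 1) (Subtype.ext (h2 0))
        (Subtype.ext hbb) (one_mul 1) ho' (by simp) (sup_eq_top_of (hgen _
          (Subgroup.mem_sup_left (Subgroup.subset_closure (by simp)))
          (Subgroup.mem_sup_left (Subgroup.subset_closure (by simp))) fun j _ _ => by omega))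
      exact ⟨Or.inl hcard, _, r, Subtype.ext (h2 0), h4⟩
    · have m1 : x 1 ∈ seg x 0 (2 : ℕ) := mem_seg (by omega) (by omega)
      obtain ⟨⟨r, h4⟩, h5⟩ := quot_four (a := (⟨_, m0⟩ : seg x 0 (2 : ℕ))) (b := ⟨_, mt⟩) (z := ⟨_, m1⟩)
        (Subtype.ext (h2 0)) (Subtype.ext hbb) (Subtype.ext (h2 1)) ho'
        (fun w => Subtype.ext (commute_seg (fun j _ _ => hc 1 j (by omega) (by omega)) w.2).symm.eq)
        (sup_eq_top_of (hgen _ (Subgroup.mem_sup_left (Subgroup.subset_closure (by simp)))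
          (Subgroup.mem_sup_left (Subgroup.subset_closure (by simp))) fun j _ _ => by
            obtain rfl : j = 1 := by omega
            exact Subgroup.mem_sup_right (Subgroup.mem_zpowers _)))
      refine ⟨Or.inr ⟨hcard, h5 (fun e => hne 0 (congrArg Subtype.val e)) (fun e => hne 1 (congrArg Subtype.val e))
        fun e => h.not_mem_left (a := 0) (b := 1) (by omega) (by omega) ?_⟩, _, r, Subtype.ext (h2 0), h4⟩
      rw [show x 0 = x 1 from congrArg Subtype.val e]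
      exact mem_seg (by omega) le_rfl
  · refine Or.inr (Or.inl ⟨hcard, ?_⟩)
    have h3 : x 0 * x 2 * (x 0)⁻¹ * (x 2)⁻¹ ∈ seg x 1 1 := by simpa using h.comm_mem_mid (by omega) hc hn
    rw [seg_self] at h3
    have h4 := (eq_of_mem_zpowers (h2 1) h3).resolve_left fun e => hn (by
      rwa [mul_inv_eq_one, mul_inv_eq_iff_eq_mul] at e)
    have h5 : x 1 * x 3 * (x 1)⁻¹ * (x 3)⁻¹ = x 2 := by
      calc _ = g * (x 0 * x 2 * (x 0)⁻¹ * (x 2)⁻¹) * g⁻¹ := by rw [s0, s2]; group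
        _ = _ := by rw [h4, ← s1]
    have hR : Rel (x 0) (x (3 : ℕ) * s) (x 1) (x 2) :=
      Rel.mul ⟨h2 0, h2 3, h2 1, h2 2, hc 1 2 (by omega) (by omega), hc 0 1 (by omega) (by omega),
        (mul_eq_of_comm (h2 0) (h2 2) h4).1, hc 3 2 (by omega) (by omega), (mul_eq_of_comm (h2 1) (h2 3) h5).2⟩
        hss hi.2.symm (hsM 1 (by omega) (by omega)) (hsM 2 (by omega) (by omega))
    have m1 : x 1 ∈ seg x 0 (3 : ℕ) := mem_seg (by omega) (by omega)
    have m2 : x 2 ∈ seg x 0 (3 : ℕ) := mem_seg (by omega) (by omega)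
    have hR' : Rel (⟨_, m0⟩ : seg x 0 (3 : ℕ)) ⟨_, mt⟩ ⟨_, m1⟩ ⟨_, m2⟩ :=
      ⟨Subtype.ext hR.aa, Subtype.ext hR.bb, Subtype.ext hR.vv, Subtype.ext hR.ww, Subtype.ext hR.vw,
        Subtype.ext hR.av, Subtype.ext hR.aw, Subtype.ext hR.bw, Subtype.ext hR.bv⟩
    refine (hR'.quot (z := 1) ho' (fun e => hne 1 (congrArg Subtype.val e)) (by simp) (sup_eq_top_of (hgen _
      (Subgroup.mem_sup_left (Subgroup.subset_closure (by simp)))
      (Subgroup.mem_sup_left (Subgroup.subset_closure (by simp))) fun j _ _ => ?_))).1 rfl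
    obtain rfl | rfl : j = 1 ∨ j = 2 := by omega
    all_goals exact Subgroup.mem_sup_left (Subgroup.subset_closure (by simp))
  · refine Or.inr (Or.inr ⟨hcard, ?_⟩)
    have c : ∀ i j : ℤ, i - j < 3 → j - i < 3 → Commute (x i) (x j) := hc
    have h3 : x 0 * x 3 * (x 0)⁻¹ * (x 3)⁻¹ ∈ seg x 1 2 := by simpa using h.comm_mem_mid (by omega) hc hn
    have h5 : x 1 * x 4 * (x 1)⁻¹ * (x 4)⁻¹ = g * (x 0 * x 3 * (x 0)⁻¹ * (x 3)⁻¹) * g⁻¹ := by rw [s0, s3]; group
    obtain ⟨e, w, hw, e1⟩ := h.decomp_left (by omega) (by omega) h3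
    change w ∈ seg x 2 2 at hw
    rw [seg_self] at hw
    have h4 : x 0 * x 3 * (x 0)⁻¹ * (x 3)⁻¹ = x 1 * x 2 := by
      rcases eq_of_mem_zpowers (h2 1) (Subgroup.zpow_mem_zpowers _ e) with h6 | h6 <;> rcases eq_of_mem_zpowers (h2 2) hw with rfl | rfl <;>
        rw [h6] at e1
      · exact absurd (by rwa [mul_one, mul_inv_eq_one, mul_inv_eq_iff_eq_mul] at e1) hn
      · rw [one_mul] at e1
        have h7 := commute_of_odd (r := x 4 * x 0) (u := x 3) (z := x 2) hm (by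
          rw [← mul_assoc, (c 3 4 (by omega) (by omega)).eq, mul_assoc, (mul_eq_of_comm (h2 0) (h2 3) e1).1,
            (c 2 3 (by omega) (by omega)).eq, mul_assoc]) (h2 2)
          ((c 2 4 (by omega) (by omega)).mul_right (c 2 0 (by omega) (by omega))) (hsM 3 (by omega) (by omega))
        exact absurd (by simpa using (c 4 3 (by omega) (by omega)).inv_left.mul_left h7) hn
      · rw [mul_one] at e1
        rw [e1, ← s1] at h5
        have h7 := commute_of_odd (r := x 4 * x 0) (u := x 1) (z := x 2) hm (by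
          rw [← mul_assoc, (mul_eq_of_comm (h2 1) (h2 4) h5).2, mul_assoc, mul_assoc (x 4),
            ((c 1 0 (by omega) (by omega)).mul_left (c 2 0 (by omega) (by omega))).eq]) (h2 2)
          ((c 2 4 (by omega) (by omega)).mul_right (c 2 0 (by omega) (by omega))) (hsM 1 (by omega) (by omega))
        have h8 : Commute (x 4) (x 1) := by simpa using h7.mul_left (c 0 1 (by omega) (by omega)).inv_left
        exact absurd (by simpa using h.commute_shift h8.symm (-1)) hn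
      · exact e1
    rw [h4, ← conj_mul, ← s1, ← s2] at h5
    have c12 := c 1 2 (by omega) (by omega)
    have c23 := c 2 3 (by omega) (by omega)
    have c13 := c 1 3 (by omega) (by omega)
    have e2 : x 1 * x 2 * (x 2 * x 3) = x 1 * x 3 := by rw [mul_assoc, ← mul_assoc (x 2), h2, one_mul]
    have hR : Rel (x 0) (x (4 : ℕ) * s) (x 1 * x 2) (x 2 * x 3) :=
      Rel.mul ⟨h2 0, h2 4, by rw [mul_assoc, ← mul_assoc (x 2), ← c12.eq, mul_assoc, h2, mul_one, h2],
        by rw [mul_assoc, ← mul_assoc (x 3), ← c23.eq, mul_assoc, h2, mul_one, h2],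
        (c12.mul_right c13).mul_left ((Commute.refl _).mul_right c23),
        (c 0 1 (by omega) (by omega)).mul_right (c 0 2 (by omega) (by omega)),
        by rw [e2, mul_assoc, (mul_eq_of_comm (h2 0) (h2 3) h4).1, ← mul_assoc, (c 2 0 (by omega) (by omega)).eq,
          c12.eq, mul_assoc, mul_assoc, ← mul_assoc (x 2), h2, one_mul],
        (c 4 2 (by omega) (by omega)).mul_right (c 4 3 (by omega) (by omega)),
        show x 1 * x 2 * x 4 = x 4 * _ by
          rw [e2, c12.eq, mul_assoc, (mul_eq_of_comm (h2 1) (h2 4) h5).2, ← mul_assoc,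
            (c 2 4 (by omega) (by omega)).eq, mul_assoc, ← mul_assoc (x 2), ← c12.eq, e2]⟩
        hss hi.2.symm ((hsM 1 (by omega) (by omega)).mul_right (hsM 2 (by omega) (by omega)))
        ((hsM 2 (by omega) (by omega)).mul_right (hsM 3 (by omega) (by omega)))
    have m1 : x 1 ∈ seg x 0 (4 : ℕ) := mem_seg (by omega) (by omega)
    have m2 : x 2 ∈ seg x 0 (4 : ℕ) := mem_seg (by omega) (by omega)
    have m3 : x 3 ∈ seg x 0 (4 : ℕ) := mem_seg (by omega) (by omega)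
    have hR' : Rel (⟨_, m0⟩ : seg x 0 (4 : ℕ)) ⟨_, mt⟩ ⟨_, mul_mem m1 m2⟩ ⟨_, mul_mem m2 m3⟩ :=
      ⟨Subtype.ext hR.aa, Subtype.ext hR.bb, Subtype.ext hR.vv, Subtype.ext hR.ww, Subtype.ext hR.vw,
        Subtype.ext hR.av, Subtype.ext hR.aw, Subtype.ext hR.bw, Subtype.ext hR.bv⟩
    refine (hR'.quot (z := ⟨_, m2⟩) ho' (fun e => hn ?_)
      (fun w => Subtype.ext (commute_seg (fun j _ _ => c 2 j (by omega) (by omega)) w.2).symm.eq)
      (sup_eq_top_of (hgen _ (Subgroup.mem_sup_left (Subgroup.subset_closure (by simp)))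
      (Subgroup.mem_sup_left (Subgroup.subset_closure (by simp))) fun j _ _ => ?_))).2
      (fun e => hne 2 (congrArg Subtype.val e)) (Subtype.ext (h2 2))
    · rwa [show x 1 * x 2 = 1 from congrArg Subtype.val e, mul_inv_eq_one, mul_inv_eq_iff_eq_mul] at h4
    · have key : ∀ K : Subgroup G, x 1 * x 2 ∈ K → x 2 * x 3 ∈ K → x 2 ∈ K → x j ∈ K := fun K k1 k2 k3 => by
        obtain rfl | rfl | rfl : j = 1 ∨ j = 2 ∨ j = 3 := by omega
        · simpa using mul_mem k1 (inv_mem k3)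
        · exact k3
        · simpa using mul_mem (inv_mem k3) k2
      exact key _ (Subgroup.mem_sup_left (Subgroup.subset_closure (by simp)))
        (Subgroup.mem_sup_left (Subgroup.subset_closure (by simp))) (Subgroup.mem_sup_right (Subgroup.mem_zpowers _))

/-- **Sims, Glauberman.** -/
theorem two_local [Finite G] {H P : Subgroup G} {y c : G} (hP : IsPGroup 2 P) (hPH : P ≤ H)
    (hodd : ¬ 2 ∣ P.relIndex H) (hc : c ∈ H) (hidx : (P ⊓ cj c P).relIndex P = 2) (hgen : H ≤ P ⊔ cj c P)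
    (hy : y ∈ 𝒩(P)) (ha : ∀ Q : Subgroup G, Q ≤ P → H ≤ 𝒩(Q) → y ∈ 𝒩(Q) → Q = ⊥)
    (hb : ∀ Q : Subgroup G, Q ≤ P → H ≤ 𝒩(Q) → cj y⁻¹ H ≤ 𝒩(Q) → Q = ⊥) : Concl H P := by
  have e0 : cj (c * y) P = cj c P := by rw [cj_mul, cj_eq_of_mem_norm hy]
  obtain ⟨t, x, ht, h, e1⟩ := exists_chain (g := c * y) Nat.prime_two hP (by
      rw [← relIndex_cj (c * y), cj_inf, cj_cj_inv, e0, inf_comm, relIndex_inf_cj, hidx]) fun Q h1 h2 h3 => by
    have h4 : H ≤ 𝒩(Q) := hgen.trans (sup_le h2 (by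
      rw [← e0, ← cj_eq_of_mem_norm h3, ← cj_norm]; exact cj_mono _ h2))
    exact ha Q h1 h4 (by simpa using mul_mem (inv_mem (h4 hc)) h3)
  have e2 : cj c P = seg x 1 t := by
    have := cj_seg h.shift 1 0 (t - 1)
    rwa [zpow_one, ← e1, e0, zero_add, sub_add_cancel] at this
  have e3 : H = seg x 0 t := le_antisymm (hgen.trans (by
      rw [e2, e1]; exact sup_le (seg_mono le_rfl (by omega)) (seg_mono (by omega) le_rfl)))
    (seg_le.2 fun j h1 h2 => by
      rcases h1.eq_or_lt with rfl | h1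
      · exact hPH (e1.ge (mem_seg le_rfl (by omega)))
      · exact cj_le_of_mem hc hPH (e2.ge (mem_seg (by omega) h2)))
  have e4 : cj y⁻¹ H = seg x (-1) (t - 1) := by
    have := cj_seg h.shift (-1) 0 t
    rwa [zpow_neg, zpow_one, ← e3, mul_inv_rev, cj_mul, cj_eq_of_mem (inv_mem hc), zero_add] at this
  have hb' : ∀ Q : Subgroup G, Q ≤ P → seg x (-1) t ≤ 𝒩(Q) → Q = ⊥ := fun Q h1 h2 =>
    hb Q h1 (e3.le.trans ((seg_mono (by omega) le_rfl).trans h2))
      (e4.le.trans ((seg_mono le_rfl (by omega)).trans h2))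
  obtain ⟨m, hm, hs⟩ := h.exists_odd ht (by rwa [← e1, ← e3]) (by rwa [← e2, ← e1]) (e3.le hc) (by rw [← e1, e2])
  rw [e3, e1]
  rcases h.bound ht 2 (fun z hz hcm => by
    have h1 : ∀ w ∈ seg x (-1) t, Commute (c * y * z * (c * y)⁻¹) w := fun w hw => commute_seg (fun j h1 h2 => by
      rw [show j = j - 1 + 1 by ring, h.shift]
      exact (hcm _ (by omega) (by omega)).conj _) hw
    have h2 : c * y * z * (c * y)⁻¹ ∈ P := by
      have h3 : c * y * z * (c * y)⁻¹ ∈ cj c P := e0 ▸ conj_mem_cj.2 (e1.ge hz)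
      rwa [mem_cj, mul_assoc, (h1 c (seg_mono (by omega) le_rfl (e3.le hc))).eq, inv_mul_cancel_left] at h3
    have := hb' _ (Subgroup.zpowers_le.2 h2) fun w hw => mem_norm_zpowers_of_comm (h1 w hw)
    rwa [Subgroup.zpowers_eq_bot, conj_eq_one_iff] at this) with ⟨h1, h2⟩ | ⟨k, h1, h2, h3, h4, h5⟩
  · exact h.concl ht hm hs h2 (Or.inl ⟨h1, rfl⟩)
  · obtain h6 | ⟨rfl, rfl⟩ : ((t = 3 ∧ k = 2) ∨ (t = 4 ∧ k = 3)) ∨ (t = 6 ∧ k = 4) := by omega
    · exact h.concl ht hm hs h4 (Or.inr ⟨h6, h5⟩)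
    exfalso
    have h6 := (conj_mem_cj (g := (c * y) ^ (1 : ℤ))).2 (h.six h4 h5)
    rw [cj_norm, cj_seg h.shift, ← shift_zpow h.shift] at h6
    have h7 := (h.rev 4).six (fun i j _ _ => h4 _ _ (by omega) (by omega)) fun e => h5 e.symm
    rw [seg_rev] at h7
    have h8 := hb' (seg x 1 4) ((seg_mono (by omega) (by omega)).trans e1.ge) (seg_le.2 fun j h8 h9 => by
      obtain rfl | rfl | h10 : j = -1 ∨ j = 6 ∨ (0 ≤ j ∧ j ≤ 5) := by omega
      · exact h7
      · exact h6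
      · rcases h10.2.eq_or_lt with rfl | h11
        · exact h.norm_right (a := 1) (b := 5) (by omega) (by omega) (mem_seg (by omega) le_rfl)
        · exact h.norm_left (a := 0) (b := 4) (by omega) (by omega) (mem_seg h10.1 (by omega)))
    have := h.card 1 4 4 (by omega) (by omega)
    rw [h8, Subgroup.card_bot] at this
    omega

end CfsgLib.Sims
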