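import Mathlib
import Cfsg.Agent.Lib.Sims.Local
import Cfsg.Agent.Lib.BG.AmbHall

/-! Sims' theorem: subgroups dihedral modulo the `2`-core; primitive groups with a suborbit of length 3. -/

set_option autoImplicit false

namespace CfsgLib.Sims

open Cfsg CfsgLib.BG Equiv MulAction
open scoped Nat

variable {G : Type*} [Group G] [Finite G]

open DihedralGroup in
theorem exists_gen_of_dihedral {H P : Subgroup G} {n : ℕ} (hn : 2 ≤ n) (e : H ⧸ pCore 2 H ≃* DihedralGroup n)
    (hP : IsPGroup 2 P) (hPH : P ≤ H) (hodd : ¬ 2 ∣ P.relIndex H) :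
    (pCore 2 H ≠ ⊥ → Nat.card P ≠ 2) ∧ ∃ c ∈ H, (P ⊓ cj c P).relIndex P = 2 ∧ H ≤ P ⊔ cj c P := by
  have : Fact (Nat.Prime 2) := ⟨Nat.prime_two⟩
  have : NeZero n := ⟨by omega⟩
  obtain ⟨f, hf, hk⟩ : ∃ f : H →* DihedralGroup n, Function.Surjective f ∧ f.ker = pCore 2 H :=
    ⟨e.toMonoidHom.comp (QuotientGroup.mk' _), e.surjective.comp (QuotientGroup.mk'_surjective _), by
      rw [← MonoidHom.comap_ker, (MonoidHom.ker_eq_bot_iff _).2 e.injective, MonoidHom.comap_bot,
        QuotientGroup.ker_mk']⟩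
  have hMn : H ≤ 𝒩((pCore 2 H).map H.subtype) :=
    Subgroup.le_normalizer.trans (Core.normalizer_le_normalizer_map_pCore H)
  have hM : (pCore 2 H).map H.subtype ≤ P :=
    le_of_norm_of_odd hP hPH hodd (Core.isPGroup_map_pCore H) (Subgroup.map_subtype_le _) (hPH.trans hMn)
  have hmem : ∀ x : H, (x : G) ∈ (pCore 2 H).map H.subtype ↔ f x = 1 := fun x => by
    rw [← MonoidHom.mem_ker, hk]
    exact Subgroup.mem_map_iff_mem H.subtype_injective
  have ho : Odd n := by
    rcases Nat.even_or_odd' n with ⟨k, rfl | rfl⟩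
    · exfalso
      have h1 : (k : ZMod (2 * k)) + k = 0 := by rw [← two_mul]; exact_mod_cast ZMod.natCast_self (2 * k)
      have : (Subgroup.zpowers (r (k : ZMod (2 * k)))).Normal := Subgroup.normalizer_eq_top_iff.1 (top_le_iff.1
        fun x _ => mem_norm_zpowers_of_comm (by
          rcases x with j | j
          · exact (r_mul_r _ _).trans ((congrArg r (add_comm _ _)).trans (r_mul_r _ _).symm)
          · exact (r_mul_sr _ _).trans ((congrArg sr (by linear_combination -h1)).trans (sr_mul_r _ _).symm)))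
      have h2 : IsPGroup 2 (Subgroup.zpowers (r (k : ZMod (2 * k)))) := by
        obtain ⟨j, -, hj⟩ := (Nat.dvd_prime_pow Nat.prime_two).1 (orderOf_dvd_of_pow_eq_one
          (show r (k : ZMod (2 * k)) ^ 2 ^ 1 = 1 by rw [pow_one, pow_two, r_mul_r, h1]; rfl))
        exact IsPGroup.of_card (by rw [Nat.card_zpowers, hj])
      have h3 := Core.le_pCore (h2.comap_of_ker_isPGroup f (hk ▸ Core.isPGroup_pCore 2 H))
      obtain ⟨u, hu⟩ := hf (r k)
      have h4 : f u = 1 := hk.ge (h3 (Subgroup.mem_comap.2 (by rw [hu]; exact Subgroup.mem_zpowers _)))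
      rw [hu, ← r_zero, r.injEq, ZMod.natCast_eq_zero_iff] at h4
      have := Nat.le_of_dvd (by omega) h4
      omega
    · exact odd_two_mul_add_one k
  have hrot : ∀ x : H, (x : G) ∈ P → ∀ j, f x = r j → f x = 1 := fun x hx j hj => by
    obtain ⟨l, hl⟩ := IsPGroup.iff_orderOf.1 hP ⟨x, hx⟩
    have h1 : orderOf (f x) ∣ 2 ^ l := by
      rw [← hl, ← Subgroup.orderOf_coe]
      exact (orderOf_map_dvd f x).trans (by rw [← Subgroup.orderOf_coe])
    have h2 : orderOf (f x) ∣ n := orderOf_dvd_of_pow_eq_one (by rw [hj, r_pow]; simp)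
    exact orderOf_eq_one_iff.1 (Nat.eq_one_of_dvd_coprimes ((Nat.coprime_two_left.2 ho).pow_left l) h1 h2)
  obtain ⟨s, hs, i, hi⟩ : ∃ s : H, (s : G) ∈ P ∧ ∃ i, f s = sr i := by
    by_contra hne
    have h1 : P.subgroupOf H ≤ (Subgroup.zpowers (r 1)).comap f := fun x hx => by
      rcases h : f x with j | j
      · rw [Subgroup.mem_comap, hrot x hx j h]; exact one_mem _
      · exact absurd ⟨x, hx, j, h⟩ hne
    have h2 := Subgroup.index_dvd_of_le h1
    rw [Subgroup.index_comap_of_surjective _ hf] at h2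
    have h3 := (Subgroup.zpowers (r 1 : DihedralGroup n)).card_mul_index
    rw [Nat.card_zpowers, orderOf_r_one, nat_card, mul_comm 2] at h3
    rw [Nat.eq_of_mul_eq_mul_left (by omega) h3] at h2
    exact hodd h2
  have hidx : ((pCore 2 H).map H.subtype).relIndex P = 2 := by
    refine LocStr.relIndex_two_of_mul_mem (fun h => ?_) fun x hx y hy hx' hy' => ?_
    · have := (hmem s).1 (h hs)
      rw [hi] at this
      cases this
    · rcases h1 : f ⟨x, hPH hx⟩ with j | j
      · exact absurd ((hmem ⟨x, hPH hx⟩).2 (hrot _ hx j h1)) hx'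
      rcases h2 : f ⟨y, hPH hy⟩ with l | l
      · exact absurd ((hmem ⟨y, hPH hy⟩).2 (hrot _ hy l h2)) hy'
      exact (hmem (⟨x, hPH hx⟩ * ⟨y, hPH hy⟩)).2 (hrot _ (mul_mem hx hy) _ (by rw [map_mul, h1, h2, sr_mul_sr]))
  obtain ⟨c, hc⟩ := hf (r 1)
  have hgen : H ≤ P ⊔ cj c P := by
    have h1 : sr i ∈ ((P ⊔ cj c P).subgroupOf H).map f := ⟨s, Subgroup.mem_sup_left hs, hi⟩
    have h2 : r (-2) ∈ ((P ⊔ cj c P).subgroupOf H).map f := by
      refine ⟨s * (c * s * c⁻¹), mul_mem (Subgroup.mem_sup_left hs) (Subgroup.mem_sup_right (conj_mem_cj.2 hs)), ?_⟩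
      simp only [map_mul, map_inv, hc, hi, inv_r, r_mul_sr, sr_mul_r, sr_mul_sr]
      congr 1
      ring
    have h3 : r 1 ∈ ((P ⊔ cj c P).subgroupOf H).map f := by
      obtain ⟨k, hk⟩ := ho
      have := pow_mem h2 k
      rwa [r_pow, show (-2 : ZMod n) * k = 1 by
        have : ((2 * k + 1 : ℕ) : ZMod n) = 0 := by rw [← hk, ZMod.natCast_self]
        push_cast at this
        linear_combination -this] at this
    have h4 : ∀ j, r j ∈ ((P ⊔ cj c P).subgroupOf H).map f := fun j => by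
      simpa using pow_mem h3 j.val
    have h5 : ((P ⊔ cj c P).subgroupOf H).map f = ⊤ := eq_top_iff.2 fun x _ => by
      rcases x with j | j
      · exact h4 j
      · simpa using mul_mem h1 (h4 (j - i))
    have h6 := Subgroup.comap_map_eq_self (f := f) (H := (P ⊔ cj c P).subgroupOf H) fun x hx =>
      Subgroup.mem_sup_left (hM ((hmem x).2 hx))
    rw [h5, Subgroup.comap_top] at h6
    exact Subgroup.subgroupOf_eq_top.1 h6.symm
  refine ⟨fun h1 h2 => h1 ?_, c, c.2, ?_, hgen⟩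
  · have h := (((pCore 2 H).map H.subtype).subgroupOf P).card_mul_index
    rw [Nat.card_congr (Subgroup.subgroupOfEquivOfLe hM).toEquiv, h2,
      show (((pCore 2 H).map H.subtype).subgroupOf P).index = 2 from hidx,
      Subgroup.card_map_of_injective H.subtype_injective] at h
    exact Subgroup.card_eq_one.1 (by omega)
  · rcases Core.eq_or_eq_of_relIndex_prime (L := P ⊓ cj c P) (by rw [hidx]; exact Nat.prime_two)
      (le_inf hM ((cj_eq_of_mem_norm (hMn c.2)).ge.trans (cj_mono _ hM))) inf_le_left with h | h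
    · rw [h, hidx]
    · rw [← Subgroup.eq_of_le_of_card_ge (inf_eq_left.1 h) (by simp), sup_idem] at hgen
      have h1 := hrot c (hgen c.2) 1 hc
      rw [hc, ← orderOf_eq_one_iff, orderOf_r_one] at h1
      omega

theorem conj_mem_of_odd {H K : Subgroup G} (h3 : K.relIndex H = 3) {x c : G} (hx : x ∈ K)
    (hxH : x ∈ H) (ho : Odd (orderOf x)) (hc : c ∈ H) : c * x * c⁻¹ ∈ K := by
  have h : (K.subgroupOf H).normalCore.index ∣ (K.subgroupOf H).index ! := by
    rw [Subgroup.normalCore_eq_ker, Subgroup.index_ker, Subgroup.index_eq_card, ← Nat.card_perm]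
    exact Subgroup.card_subgroup_dvd_card (toPermHom H (H ⧸ K.subgroupOf H)).range
  rw [← Subgroup.relIndex_mul_index (K.subgroupOf H).normalCore_le, show (K.subgroupOf H).index = 3 from h3] at h
  have h2 : (K.subgroupOf H).normalCore.relIndex (K.subgroupOf H) ∣ 2 :=
    Nat.dvd_of_mul_dvd_mul_right (by norm_num : 0 < 3) h
  have h4 := (K.subgroupOf H).normalCore.pow_relIndex_mem (show (⟨x, hxH⟩ : H) ∈ K.subgroupOf H from hx)
  have h5 : (⟨x, hxH⟩ : H) ∈ (K.subgroupOf H).normalCore :=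
    Subgroup.zpowers_le.2 h4 (mem_zpowers_pow_iff.2 (by
      rw [← Subgroup.orderOf_coe]
      exact (Nat.coprime_two_left.2 ho).of_dvd_left h2))
  exact h5 ⟨c, hc⟩

/-- the abstract form of a primitive group with a suborbit of length `3` -/
theorem sims {H : Subgroup G} {g : G} (hH : IsCoatom H) (hcore : ∀ Q : Subgroup G, Q ≤ H → Q.Normal → Q = ⊥)
    (h3 : (H ⊓ cj g H).relIndex H = 3) :
    Nat.card H = 3 ∨ (Nat.card H = 3 * Nat.card ↥(H ⊓ cj g H) ∧ Concl H (H ⊓ cj g H)) := by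
  have hmax : ∀ {L N : Subgroup G}, ¬ L ≤ H → H ≤ N → L ≤ N → N = ⊤ := fun h1 h2 h4 =>
    (hH.le_iff.1 h2).resolve_right fun e => h1 (h4.trans e.le)
  have hbot : ∀ {L Q : Subgroup G}, ¬ L ≤ H → Q ≤ H → H ≤ 𝒩(Q) → L ≤ 𝒩(Q) → Q = ⊥ := fun h1 h2 h4 h5 =>
    hcore _ h2 (Subgroup.normalizer_eq_top_iff.1 (hmax h1 h4 h5))
  have hg : ¬ cj g H ≤ H := fun e => by
    rw [cj_eq_of_mem_norm (mem_norm_of_cj_le e), inf_idem, Subgroup.relIndex_self] at h3
    omega
  have h3' := (relIndex_inf_cj H g).trans h3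
  set K := H ⊓ cj g H with hK
  have key : ∀ L : Subgroup G, K ≤ L → K.relIndex L = 3 →
      L ≤ 𝒩(Subgroup.closure {y | y ∈ K ∧ Odd (orderOf y)}) := fun L h1 h2 c hc => mem_norm_of_cj_le (by
    rw [cj_closure, Subgroup.closure_le]
    rintro _ ⟨y, hy, rfl⟩
    exact Subgroup.subset_closure ⟨conj_mem_of_odd h2 hy.1 (h1 hy.1) hy.2 hc, by
      rw [show orderOf (c * y * c⁻¹) = orderOf y from (MulAut.conj c).orderOf_eq y]; exact hy.2⟩)
  have h4 := hbot hg (((Subgroup.closure_le _).2 fun _ hy => hy.1).trans inf_le_left) (key H inf_le_left h3)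
    (key _ inf_le_right h3')
  have hP : IsPGroup 2 K := (isPGroup_iff_primeFactors_card_subset two_ne_zero).2 fun q hq => by
    have hq' := Nat.prime_of_mem_primeFactors hq
    have : Fact q.Prime := ⟨hq'⟩
    obtain ⟨y, hy⟩ := exists_prime_orderOf_dvd_card' (G := K) q (Nat.dvd_of_mem_primeFactors hq)
    rw [Nat.prime_two.primeFactors, Finset.mem_singleton]
    by_contra hne
    have h5 : (y : G) ∈ Subgroup.closure {y | y ∈ K ∧ Odd (orderOf y)} :=
      Subgroup.subset_closure ⟨y.2, by rw [Subgroup.orderOf_coe, hy]; exact hq'.odd_of_ne_two hne⟩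
    rw [h4, Subgroup.mem_bot] at h5
    rw [← Subgroup.orderOf_coe, h5, orderOf_one] at hy
    exact hq'.one_lt.ne hy
  have hcard : Nat.card H = 3 * Nat.card K := by
    have h := (K.subgroupOf H).card_mul_index
    rw [Nat.card_congr (Subgroup.subgroupOfEquivOfLe inf_le_left).toEquiv, show (K.subgroupOf H).index = 3 from h3] at h
    rw [← h, mul_comm]
  obtain ⟨d, hd, h5⟩ := Sylow_trans Nat.prime_two
    ((Sylow_iff' Nat.prime_two).2 ⟨cj_mono g (inf_le_left : K ≤ H), hP.map _, by rw [relIndex_cj, h3]; decide⟩)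
    ((Sylow_iff' Nat.prime_two).2 ⟨(inf_le_right : K ≤ cj g H), hP, by rw [h3']; decide⟩)
  have hy : d * g ∈ 𝒩(K) := by rw [mem_norm_iff, cj_mul]; exact h5.symm
  have h6 : cj (d * g) H = cj g H := by rw [cj_mul, cj_eq_of_mem hd]
  have h7 : ¬ Subgroup.zpowers (d * g) ≤ H := fun e => hg (by
    rw [← h6, cj_eq_of_mem (Subgroup.zpowers_le.1 e)])
  by_cases hn : H ≤ 𝒩(K)
  · left
    rw [hcard, hbot (Q := K) h7 inf_le_left hn (Subgroup.zpowers_le.2 hy), Subgroup.card_bot]
  obtain ⟨c, hc, hcn⟩ := SetLike.not_le_iff_exists.1 hn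
  have h8 : ¬ cj c K ≤ K := fun e => hcn (mem_norm_of_cj_le e)
  refine Or.inr ⟨hcard, two_local hP inf_le_left (by rw [h3]; decide) hc ?_ ?_ hy
    (fun Q h1 h2 h9 => hbot h7 (h1.trans inf_le_left) h2 (Subgroup.zpowers_le.2 h9))
    fun Q h1 h2 h9 => hbot (fun e => hg ?_) (h1.trans inf_le_left) h2 h9⟩
  · rw [Subgroup.inf_relIndex_left]
    have h9 := Subgroup.relIndex_le_of_le_right (H := cj c K) (inf_le_left : K ≤ H) (by
      rw [← cj_eq_of_mem hc, relIndex_cj, h3]; decide)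
    rw [← cj_eq_of_mem hc, relIndex_cj, h3, cj_eq_of_mem hc] at h9
    obtain ⟨l, hl⟩ := hP.exists_card_eq
    obtain ⟨j, -, h10⟩ := (Nat.dvd_prime_pow Nat.prime_two).1 (hl ▸ Subgroup.relIndex_dvd_card (cj c K) K)
    rw [h10] at h9 ⊢
    have h11 : j ≠ 0 := by
      rintro rfl
      exact h8 (Subgroup.eq_of_le_of_card_ge (Subgroup.relIndex_eq_one.1 h10) (by simp)).ge
    have h12 : j < 2 := (Nat.pow_lt_pow_iff_right one_lt_two).1 (by omega)
    rw [show j = 1 by omega, pow_one]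
  · exact ((Core.eq_or_eq_of_relIndex_prime (H := K) (K := H) (by rw [h3]; exact Nat.prime_three) le_sup_left
      (sup_le inf_le_left (cj_le_of_mem hc inf_le_left))).resolve_left fun e => h8 (le_sup_right.trans e.le)).ge
  · rw [← h6, cj_eq_of_mem_norm (by simpa using inv_mem (mem_norm_of_cj_le e))]

theorem sims_perm {Ω : Type*} [MulAction G Ω] [FaithfulSMul G Ω] (hprim : IsPreprimitive G Ω) (a b : Ω)
    (h3 : Nat.card (orbit (stabilizer G a) b) = 3) : Nat.card (stabilizer G a) = 3 ∨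
      ∃ K : Subgroup G, Nat.card (stabilizer G a) = 3 * Nat.card K ∧ Concl (stabilizer G a) K := by
  have : Nontrivial (orbit (stabilizer G a) b) := by
    have : Finite (orbit (stabilizer G a) b) := Nat.finite_of_card_ne_zero (by omega)
    exact Finite.one_lt_card_iff_nontrivial.1 (by omega)
  have : Nontrivial Ω := (Subtype.val_injective (p := (· ∈ orbit (stabilizer G a) b))).nontrivial
  obtain ⟨g, rfl⟩ := exists_smul_eq G a b
  refine (sims (g := g) (IsPreprimitive.isCoatom_stabilizer_of_isPreprimitive G a) (fun Q h1 h2 => ?_) ?_).imp_right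
    fun h => ⟨_, h⟩
  · refine eq_bot_iff.2 fun x hx => Subgroup.mem_bot.2 (eq_of_smul_eq_smul (α := Ω) fun c => ?_)
    obtain ⟨d, rfl⟩ := exists_smul_eq G a c
    have : (d⁻¹ * x * d⁻¹⁻¹) • a = a := h1 (h2.conj_mem x hx d⁻¹)
    rw [inv_inv, mul_smul, mul_smul, inv_smul_eq_iff] at this
    rw [this, one_smul]
  · rw [Subgroup.inf_relIndex_left, cj_def, ← stabilizer_smul_eq_stabilizer_map_conj, ← h3, Nat.card_coe_set_eq,
      ← index_stabilizer]
    rfl

end CfsgLib.Sims
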